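import Mathlib.Algebra.Homology.DerivedCategory.ExactFunctor
import Mathlib.Algebra.Homology.DerivedCategory.HomologySequence

/-!
# Cohomology and exact functors
-/

set_option autoImplicit false
set_option linter.unusedSectionVars false
set_option backward.isDefEq.respectTransparency false
set_option backward.isDefEq.respectTransparency.types false

universe v u v' u'

open CategoryTheory CategoryTheory.Limits

attribute [local instance] HasDerivedCategory.standard

namespace Groth.Agent.TwistBC9

variable {A : Type u} [Category.{v} A] [Abelian A] {B : Type u'} [Category.{v'} B] [Abelian B] (F : A ⥤ B)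
  [F.Additive] [PreservesFiniteLimits F] [PreservesFiniteColimits F]

/-- Exact functors commute with cohomology of complexes. -/
noncomputable def hMapIso (i : ℤ) :
    F.mapHomologicalComplex (ComplexShape.up ℤ) ⋙ HomologicalComplex.homologyFunctor B (ComplexShape.up ℤ) i ≅
      HomologicalComplex.homologyFunctor A (ComplexShape.up ℤ) i ⋙ F :=
  NatIso.ofComponents (fun K => (K.sc i).mapHomologyIso F)
    fun φ => ShortComplex.mapHomologyIso_hom_naturality ((HomologicalComplex.shortComplexFunctor A _ i).map φ) F

/-- Exact functors commute with cohomology, naturally. -/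
noncomputable def hdMapIso (i : ℤ) :
    F.mapDerivedCategory ⋙ DerivedCategory.homologyFunctor B i ≅ DerivedCategory.homologyFunctor A i ⋙ F :=
  Localization.liftNatIso DerivedCategory.Q (HomologicalComplex.quasiIso A (ComplexShape.up ℤ))
    (DerivedCategory.Q ⋙ F.mapDerivedCategory ⋙ DerivedCategory.homologyFunctor B i)
    (DerivedCategory.Q ⋙ DerivedCategory.homologyFunctor A i ⋙ F) _ _
    ((Functor.associator _ _ _).symm ≪≫ Functor.isoWhiskerRight F.mapDerivedCategoryFactors _ ≪≫
      Functor.associator _ _ _ ≪≫
      Functor.isoWhiskerLeft _ (DerivedCategory.homologyFunctorFactors B i) ≪≫ hMapIso F i ≪≫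
      Functor.isoWhiskerRight (DerivedCategory.homologyFunctorFactors A i).symm F ≪≫ Functor.associator _ _ _)

end Groth.Agent.TwistBC9
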