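import Groth.Agent.Lib.TwistBC9.LTTri
import Groth.Agent.Lib.DGen9.PCPush
import Groth.Agent.Lib.DMon9.LPExtra
import Groth.Agent.Lib.RHom.Vanish

/-!
# Pseudo-coherence of twisted direct images, tested on perfect objects
-/

set_option autoImplicit false
set_option linter.style.haveILetI false
set_option linter.unusedSectionVars false
set_option backward.isDefEq.respectTransparency false
set_option backward.isDefEq.respectTransparency.types false
set_option maxHeartbeats 800000

universe u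

open CategoryTheory CategoryTheory.Limits MonoidalCategory AlgebraicGeometry Pretriangulated

attribute [local instance] HasDerivedCategory.standard

namespace Groth.Agent.TwistBC9

open DMon9 KFlat KFlat.Sch

attribute [local instance] DBC9.hasRpush

variable {X : Scheme.{u}}

/-- A K-flat strictly bounded above replacement of a twisting complex. -/
theorem exists_ltensor_model (K : CochainComplex X.Modules ℤ) (b : ℤ) [(DCoh.toD X K).IsLE b] [DCoh.HasLTensorCx K] :
    ∃ (K' : KF X) (_ : DCoh.HasLTensorCx K'.obj), K'.obj.IsStrictlyLE b ∧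
      Nonempty ((qK X).obj K' ≅ DCoh.toD X K) ∧ Nonempty (DCoh.LTensorCx K'.obj ≅ DCoh.LTensorCx K) := by
  haveI : K.IsLE b := (DerivedCategory.isLE_Q_obj_iff K b).1 ‹_›
  let K' := resObj (cover X) (K.truncLE b)
  haveI : K'.IsStrictlyLE b := resObj_isStrictlyLE (cover X) _ b
  haveI : QuasiIso (resπ (cover X) (K.truncLE b)) := quasiIso_resπ (cover X) _
  haveI := KFlat.Sch.hasLTensorCx K'
  let q : K' ⟶ K := resπ (cover X) (K.truncLE b) ≫ K.ιTruncLE b
  haveI : QuasiIso q := quasiIso_comp _ _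
  haveI := RHom.isIso_ltMap q
  exact ⟨⟨K', (isAdapted_resObj (K.truncLE b)).1⟩, inferInstance, inferInstance,
    ⟨asIso (DerivedCategory.Q.map q)⟩, ⟨asIso (RHom.ltMap q)⟩⟩

/-- If twisted perfect objects have pseudo-coherent direct images, so do twisted pseudo-coherent ones. -/
theorem pc_rpush_ltensor [CompactSpace X] [QuasiSeparatedSpace X] {S : Scheme.{u}} [CompactSpace S] (f : X ⟶ S)
    [QuasiCompact f] [QuasiSeparated f] (K : CochainComplex X.Modules ℤ) (hK : DCoh.IsQCohD (DCoh.toD X K)) (b : ℤ)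
    [(DCoh.toD X K).IsLE b] [DCoh.HasLTensorCx K]
    (h : ∀ E : DCoh.D X, DCoh.IsPerfect E → ∀ m : ℤ,
      DCoh.IsPseudoCoherentD m ((DCoh.Rpush f).obj ((DCoh.LTensorCx K).obj E)))
    (E : DCoh.D X) (hE : ∀ m : ℤ, DCoh.IsPseudoCoherentD m E) (m : ℤ) :
    DCoh.IsPseudoCoherentD m ((DCoh.Rpush f).obj ((DCoh.LTensorCx K).obj E)) := by
  obtain ⟨K', _, hb, ⟨eK⟩, ⟨iK⟩⟩ := exists_ltensor_model K b
  haveI := hb
  obtain ⟨r, hr⟩ := DGen9.exists_approximation X Set.univ isClosed_univ (by simp)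
  obtain ⟨N, hN⟩ := DPush.exists_bound f
  obtain ⟨_, _⟩ := DPush.exists_commShift_isTriangulated f
  have hq := RelT.isQCohD_of_pc hE
  obtain ⟨P, α, hP, -, hα, hα'⟩ := hr (m - b - N) E hq (hE _) (fun i _ => Set.subset_univ _)
  obtain ⟨C, g, w, hT⟩ := distinguished_cocone_triangle α
  have hd : DPerf.DCond (Set.Ici (m - b - N)) α := fun i hi => by
    refine ⟨?_, ?_⟩
    · rcases (Set.mem_Ici.1 hi).eq_or_lt with h | h
      · exact h ▸ hα'
      · haveI := hα i h; infer_instance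
    · haveI := hα (i + 1) (by have := Set.mem_Ici.1 hi; omega); infer_instance
  have hz : ∀ i, m - b - N ≤ i → IsZero (DCoh.HD C i) := fun i hi =>
    DPerf.isZero_homology_of_dcond hT hd (show i ∈ Set.Ici (m - b - (N : ℤ)) from hi)
  haveI hC : C.IsLE (m - b - N - 1) := (DerivedCategory.isLE_iff _ _).2 fun i hi => hz i (by omega)
  have hCq : DCoh.IsQCohD C := DPush.isQCohD_obj₃ _ hT (DGen9.isQCohD_of_isPerfect hP) hq
  obtain ⟨T', hT', ⟨a₁⟩, ⟨a₂⟩, ⟨a₃⟩⟩ := exists_triangle_LT K' _ hT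
  have hTq : DCoh.IsQCohD T'.obj₃ := DQC.isQCohD_of_iso ((theta K').app C ≪≫ a₃.symm)
    (isQCohD_tensor (A := (C : DM X)) (B := (qM X).obj K') hCq (DQC.isQCohD_of_iso eK.symm hK))
  haveI hTle : T'.obj₃.IsLE (m - b - N - 1 + b) :=
    @Triangulated.TStructure.isLE_of_iso _ _ _ _ _ _ _ _ _ _ a₃.symm _ (RHom.isLE_LT K'.obj b C (m - b - N - 1))
  refine DPerf.isPseudoCoherentD_of_approx
    (((DPerf.approx_Ici₂ m _ ((DCoh.Rpush f).map_distinguished _ hT') ?_
      (DPerf.approx_of_isZero_HD fun i hi => hN T'.obj₃ hTq _ hTle i (by omega)))).of_iso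
      ((DCoh.Rpush f).mapIso (a₂ ≪≫ iK.app E)))
  exact (DPerf.approx_of_isPseudoCoherentD (h P hP m)).of_iso ((DCoh.Rpush f).mapIso (a₁ ≪≫ iK.app P)).symm

end Groth.Agent.TwistBC9
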