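import Groth.Agent.Lib.TwistBC9.Perfect
import Groth.Agent.Lib.DPush9.Compute
import Groth.Agent.Lib.DPerf.OneDegree
import Groth.Agent.Lib.ResDesc11.Basic

/-!
# Locally free direct images
-/

set_option autoImplicit false
set_option linter.style.haveILetI false
set_option linter.unusedSectionVars false
set_option backward.isDefEq.respectTransparency false
set_option backward.isDefEq.respectTransparency.types false
set_option maxHeartbeats 800000

universe u

open CategoryTheory CategoryTheory.Limits MonoidalCategory AlgebraicGeometry Pretriangulated Opposite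

attribute [local instance] HasDerivedCategory.standard

namespace Groth.Agent.TwistBC9

open DMon9 KFlat KFlat.Sch

attribute [local instance] DBC9.hasRpush

variable {X S : Scheme.{u}}

theorem isPerfect_oneD (X : Scheme.{u}) : DCoh.IsPerfect (oneD X 0) :=
  DPerf.isPerfect_iff_approx.2 (DPerf.approx_inD_of_isFinLocFree (ResDesc11.isFinLocFree_structureModule X))

/-- Twisting the structure sheaf gives the module. -/
theorem nonempty_tenF_oneD (G : X.Modules) :
    Nonempty ((tenF G).obj (oneD X 0) ≅ (DerivedCategory.singleFunctor X.Modules 0).obj G) := by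
  obtain ⟨s⟩ := nonempty_oneShift (X := X) 0
  let a : (tenF G).obj (oneD X 0) ≅ (tL (oneK X 0)).obj ((DerivedCategory.singleFunctor X.Modules 0).obj G) :=
    Iso.refl _
  exact ⟨a ≪≫ s.app _ ≪≫ (shiftFunctorZero' (DCoh.D X) (-0 : ℤ) (by simp)).app _⟩

variable (hN : ∀ {R : CommRingCat.{u}} [IsNoetherianRing R] {X' : Scheme.{u}} (f : X' ⟶ Spec R)
  [LocallyOfFiniteType f] [QuasiCompact f] (E : DCoh.D X') (_ : DCoh.IsPerfect E) (G : X'.Modules) (_ : Coh.IsCoh G)
  (_ : FlatMod.IsFlatOver f G) (_ : ClSub.IsProperOver f (CohB1.support G)),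
  DCoh.IsPerfect ((DCoh.Rpush f).obj ((tenF G).obj E)))

include hN in
/-- The derived direct image of a module is perfect. -/
theorem isPerfect_rpush_inD (f : X ⟶ S) [LocallyOfFinitePresentation f] [QuasiCompact f] [QuasiSeparated f]
    (F : X.Modules) (hF : CohB1.IsFP F) (hflat : FlatMod.IsFlatOver f F)
    (hsupp : ClSub.IsProperOver f (CohB1.support F)) :
    DCoh.IsPerfect ((DCoh.Rpush f).obj ((DerivedCategory.singleFunctor X.Modules 0).obj F)) := by
  obtain ⟨a⟩ := nonempty_tenF_oneD F
  exact DGen9.isPerfect_of_iso ((DCoh.Rpush f).mapIso a)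
    (isPerfect_twist hN f F hF hflat hsupp _ (isPerfect_oneD X))

/-- Base change of the derived direct image of a flat module. -/
theorem nonempty_bc_inD {X' S' : Scheme.{u}} {g : S' ⟶ S} {f : X ⟶ S} [QuasiCompact f] [QuasiSeparated f]
    {f' : X' ⟶ S'} {g' : X' ⟶ X} (H : IsPullback g' f' f g) (F : X.Modules) (hF : Coh.IsQCoh F)
    (hflat : FlatMod.IsFlatOver f F) :
    Nonempty ((lP g).obj ((DCoh.Rpush f).obj ((DerivedCategory.singleFunctor X.Modules 0).obj F)) ≅
      (DCoh.Rpush f').obj ((DerivedCategory.singleFunctor X'.Modules 0).obj ((Scheme.Modules.pullback g').obj F))) := by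
  obtain ⟨a⟩ := nonempty_tenF_oneD F
  obtain ⟨a'⟩ := nonempty_tenF_oneD ((Scheme.Modules.pullback g').obj F)
  obtain ⟨e⟩ := nonempty_bc_tenF H F hF hflat (oneD X 0) (DGen9.isQCohD_of_isPerfect (isPerfect_oneD X))
  obtain ⟨p⟩ := nonempty_lP_oneM g' 0
  exact ⟨(lP g).mapIso ((DCoh.Rpush f).mapIso a.symm) ≪≫ e ≪≫
    (DCoh.Rpush f').mapIso ((tenF _).mapIso p ≪≫ a')⟩

/-- Acyclic modules: the derived direct image is the direct image. -/
theorem nonempty_rpush_inD_of_acyclic (f : X ⟶ S) [QuasiCompact f] [QuasiSeparated f] (F : X.Modules)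
    (hF : Coh.IsQCoh F) (hac : RFPlus.IsAcyclicObj (Scheme.Modules.pushforward f) F) :
    Nonempty ((DCoh.Rpush f).obj ((DerivedCategory.singleFunctor X.Modules 0).obj F) ≅
      (DerivedCategory.singleFunctor S.Modules 0).obj ((Scheme.Modules.pushforward f).obj F)) := by
  let K := (HomologicalComplex.single X.Modules (ComplexShape.up ℤ) 0).obj F
  have hq : ∀ n, Coh.IsQCoh (K.X n) := fun n => by
    by_cases hn : n = 0
    · subst hn
      exact @M1.isQuasicoherent_of_iso _ _ _ (HomologicalComplex.singleObjXSelf (ComplexShape.up ℤ) 0 F).symm hF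
    · exact DPush.isQCoh_of_isZero (HomologicalComplex.isZero_single_obj_X _ _ _ _ hn)
  have hk : ∀ n, RFPlus.IsAcyclicObj (Scheme.Modules.pushforward f) (K.X n) := fun n k hk' => by
    by_cases hn : n = 0
    · subst hn
      exact (hac k hk').of_iso (((Scheme.Modules.pushforward f).rightDerived k).mapIso
        (HomologicalComplex.singleObjXSelf (ComplexShape.up ℤ) 0 F))
    · haveI : Injective (K.X n) := (HomologicalComplex.isZero_single_obj_X _ _ _ _ hn).injective
      exact RFPlus.isAcyclicObj_injective _ _ k hk'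
  haveI := DPush9.isIso_βp f K hq hk
  exact ⟨(asIso ((DPush9.βp f).app K)).symm ≪≫
    DerivedCategory.Q.mapIso ((HomologicalComplex.singleMapHomologicalComplex (Scheme.Modules.pushforward f)
      (ComplexShape.up ℤ) 0).app F)⟩

include hN in
/-- Vanishing higher direct images give a locally free direct image. -/
theorem isFinLocFree_push (f : X ⟶ S) [LocallyOfFinitePresentation f] [QuasiCompact f] [QuasiSeparated f]
    (F : X.Modules) (hF : CohB1.IsFP F) (hflat : FlatMod.IsFlatOver f F)
    (hsupp : ClSub.IsProperOver f (CohB1.support F))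
    (hac : RFPlus.IsAcyclicObj (Scheme.Modules.pushforward f) F) :
    FlatMod.IsFinLocFree ((Scheme.Modules.pushforward f).obj F) := by
  have hq := M1.isFP_isQCoh hF
  let M := (Scheme.Modules.pushforward f).obj F
  let E := (DCoh.Rpush f).obj ((DerivedCategory.singleFunctor X.Modules 0).obj F)
  obtain ⟨e⟩ := nonempty_rpush_inD_of_acyclic f F hq hac
  have hE : DCoh.IsPerfect E := isPerfect_rpush_inD hN f F hF hflat hsupp
  let eH : DCoh.HD E 0 ≅ M := (DerivedCategory.homologyFunctor _ 0).mapIso e ≪≫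
    (DerivedCategory.singleFunctorCompHomologyFunctorIso S.Modules 0).app M
  intro x
  let pt := S.fromSpecResidueField x
  haveI := KFlat.Sch.hasLpull pt
  have hprof : DPerf.Profile E 0 (PerfD.betti E x 0) x := fun l => by
    by_cases hl : l = 0
    · subst hl; rw [if_pos rfl]
    rw [if_neg hl]
    suffices hz : IsZero (DCoh.HD ((DCoh.Lpull pt).obj E) l) by
      haveI : Subsingleton ((DCoh.HD ((DCoh.Lpull pt).obj E) l).val.obj (op ⊤)) :=
        ModuleCat.subsingleton_of_isZero ((SheafOfModules.evaluation _ (op ⊤)).map_isZero hz)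
      haveI : Nontrivial (Coh.Γtop (Spec (S.residueField x))) :=
        (Scheme.ΓSpecIso (S.residueField x)).commRingCatIsoToRingEquiv.toEquiv.nontrivial
      exact Module.finrank_zero_of_subsingleton
    obtain ⟨l₁⟩ := DMon9.nonempty_lpull_iso_lP pt E
    refine IsZero.of_iso ?_ ((DerivedCategory.homologyFunctor _ l).mapIso l₁)
    rcases lt_or_gt_of_ne hl with hlt | hgt
    · haveI : QuasiCompact (pullback.snd f pt) := inferInstance
      obtain ⟨b⟩ := nonempty_bc_inD (IsPullback.of_hasPullback f pt) F hq hflat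
      haveI := DPush.isGE_rpush (pullback.snd f pt) ((DerivedCategory.singleFunctor _ 0).obj
        ((Scheme.Modules.pullback (pullback.fst f pt)).obj F)) 0 inferInstance
      exact (DerivedCategory.isZero_of_isGE _ 0 l hlt).of_iso ((DerivedCategory.homologyFunctor _ l).mapIso b)
    · haveI := isLE_lP_single pt M
      exact (DerivedCategory.isZero_of_isLE _ 0 l hgt).of_iso
        ((DerivedCategory.homologyFunctor _ l).mapIso ((lP pt).mapIso e))
  obtain ⟨Z, k, hk, hxk, hflf⟩ := DPerf.exists_flf_nhd_of_ff hE (x := x) (DPerf.ff_of_profile hE x 0 _ hprof).2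
  obtain ⟨z, rfl⟩ := hxk
  obtain ⟨U, n, hzU, ⟨eU⟩⟩ := hflf 0 z
  obtain ⟨W, k', hk', hxW, hkk⟩ := DPerf.exists_opens (U.ι ≫ k) (x := k z)
    ⟨⟨z, hzU⟩, by rw [Scheme.Hom.comp_apply]; rfl⟩
  exact ⟨W, n, hxW, ⟨(Scheme.Modules.restrictFunctor W.ι).mapIso eH.symm ≪≫
      (M1.restrictRestrictIso (DCoh.HD E 0) k (k' ≫ U.ι) W.ι (by rw [Category.assoc, hkk])).symm ≪≫
      (M1.restrictRestrictIso ((DCoh.HD E 0).restrict k) U.ι k' (k' ≫ U.ι) rfl).symm ≪≫
      (Scheme.Modules.restrictFunctor k').mapIso eU ≪≫ M2.freeModRestrictIso k' n⟩⟩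

include hN in
/-- The locus where the derived direct image is locally free in one degree. -/
theorem exists_locus (f : X ⟶ S) [IsProper f] [LocallyOfFinitePresentation f] (F : X.Modules) (hF : CohB1.IsFP F)
    (hflat : FlatMod.IsFlatOver f F) (i : ℤ) (r : ℕ) :
    ∃ U : S.Opens, ∀ (T : Scheme.{u}) (g : T ⟶ S),
      Set.range g.base ⊆ (U : Set S) ↔
        ∃ V : T.Modules, FlatMod.IsFinLocFreeOfRank r V ∧
          Nonempty ((DCoh.Rpush (pullback.snd f g)).obj ((DerivedCategory.singleFunctor _ 0).obj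
            ((Scheme.Modules.pullback (pullback.fst f g)).obj F)) ≅
              ((DerivedCategory.singleFunctor T.Modules 0).obj V)⟦-i⟧) := by
  let E := (DCoh.Rpush f).obj ((DerivedCategory.singleFunctor X.Modules 0).obj F)
  have hZ := M1.isClosed_support (M1.isFP_isFT hF)
  have hE : DCoh.IsPerfect E := isPerfect_rpush_inD hN f F hF hflat ⟨hZ, inferInstance⟩
  haveI : ∀ x : S, DCoh.HasLpull (S.fromSpecResidueField x) := fun x => KFlat.Sch.hasLpull _
  refine ⟨⟨_, DPerf.isOpen_profile hE i r⟩, fun T g => ?_⟩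
  haveI : ∀ t : T, DCoh.HasLpull (T.fromSpecResidueField t) := fun t => KFlat.Sch.hasLpull _
  haveI := KFlat.Sch.hasLpull g
  obtain ⟨b⟩ := nonempty_bc_inD (IsPullback.of_hasPullback f g) F (M1.isFP_isQCoh hF) hflat
  obtain ⟨l⟩ := DMon9.nonempty_lpull_iso_lP g E
  let e := l ≪≫ b
  have hE' : DCoh.IsPerfect ((DCoh.Lpull g).obj E) :=
    DGen9.isPerfect_of_iso l.symm (PerfPush9.isPerfect_lP g hE)
  let sh : ∀ V : T.Modules, ((DerivedCategory.singleFunctor T.Modules 0).obj V)⟦-i⟧ ≅
      (DerivedCategory.singleFunctor T.Modules i).obj V := fun V =>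
    ((DerivedCategory.singleFunctors T.Modules).shiftIso (-i) i 0 (by omega)).app V
  have hp : ∀ t : T, DPerf.Profile ((DCoh.Lpull g).obj E) i r t ↔ DPerf.Profile E i r (g t) := fun t =>
    forall_congr' fun l => by rw [DPerf.betti_lpull hE g t l]
  constructor
  · intro hU
    obtain ⟨V, hV, ⟨eV⟩⟩ := DPerf.exists_iso_of_profile hE' i r fun t => (hp t).2 (hU ⟨t, rfl⟩)
    exact ⟨V, hV, ⟨e.symm ≪≫ eV ≪≫ (sh V).symm⟩⟩
  · rintro ⟨V, hV, ⟨eV⟩⟩ _ ⟨t, rfl⟩
    exact (hp t).1 (DPerf.profile_of_iso V r hV i (e ≪≫ eV ≪≫ sh V) t)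

end Groth.Agent.TwistBC9
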