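import Groth.Agent.Lib.DMon9.LT
import Groth.Agent.Lib.RHom.Exist
import Groth.Agent.Lib.RHom.DualMap

set_option autoImplicit false
set_option linter.style.haveILetI false
set_option linter.unusedSectionVars false
set_option backward.isDefEq.respectTransparency false
set_option backward.isDefEq.respectTransparency.types false

universe u

open CategoryTheory CategoryTheory.Limits MonoidalCategory AlgebraicGeometry Pretriangulated

attribute [local instance] HasDerivedCategory.standard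

namespace Groth.Agent.TwistBC9

open DMon9 KFlat KFlat.Sch

variable {X : Scheme.{u}} (E : KF X) [DCoh.HasLTensorCx E.obj]

/-- `- ⊗^L E` on a complex. -/
noncomputable def ltObj (A : CochainComplex X.Modules ℤ) :
    (DCoh.LTensorCx E.obj).obj (DerivedCategory.Q.obj A) ≅
      DerivedCategory.Q.obj (((tcx (TX X)).flip.obj E.obj).obj A) :=
  haveI := isIso_counitE E A
  asIso ((RHom.ltCounit E.obj).app A)

theorem exists_triangle_LT (T : Triangle (DCoh.D X)) (hT : T ∈ distTriang _) :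
    ∃ T' : Triangle (DCoh.D X), T' ∈ distTriang _ ∧ Nonempty (T'.obj₁ ≅ (DCoh.LTensorCx E.obj).obj T.obj₁) ∧
      Nonempty (T'.obj₂ ≅ (DCoh.LTensorCx E.obj).obj T.obj₂) ∧
      Nonempty (T'.obj₃ ≅ (DCoh.LTensorCx E.obj).obj T.obj₃) := by
  obtain ⟨K, L, φ, ⟨e₀⟩⟩ := (DerivedCategory.mem_distTriang_iff T).1 hT
  let S := KFlat.cylSC φ
  have hS := KFlat.cylSC_shortExact φ
  haveI : IsIso (DerivedCategory.Q.map (biprod.fst : L ⊞ CochainComplex.mappingCone (𝟙 K) ⟶ L)) := by
    rw [DerivedCategory.isIso_Q_map_iff_quasiIso]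
    exact inferInstanceAs (QuasiIso
      (KFlat.fstHomotopyEquiv (X := L) (CochainComplex.mappingCone.homotopyToZeroOfId K)).hom)
  let b : DerivedCategory.Q.obj S.X₂ ≅ DerivedCategory.Q.obj L :=
    asIso (DerivedCategory.Q.map (biprod.fst : L ⊞ CochainComplex.mappingCone (𝟙 K) ⟶ L))
  have hab : DerivedCategory.Q.map S.f ≫ b.hom = (Iso.refl (DerivedCategory.Q.obj K)).hom ≫
      DerivedCategory.Q.map φ := by
    simp only [b, asIso_hom, Iso.refl_hom, Category.id_comp, ← Functor.map_comp]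
    exact congrArg _ (biprod.lift_fst _ _)
  let e : DerivedCategory.triangleOfSES hS ≅ T :=
    isoTriangleOfIso₁₂ _ _ (DerivedCategory.triangleOfSES_distinguished hS)
      (DerivedCategory.mappingCone_triangle_distinguished φ) (Iso.refl _) b hab ≪≫ e₀.symm
  refine ⟨_, DerivedCategory.triangleOfSES_distinguished
    ((splitPres_right (TX X) E.obj).shortExact S (KFlat.cylSC_splitting φ)),
    ⟨(ltObj E S.X₁).symm ≪≫ (DCoh.LTensorCx E.obj).mapIso (Triangle.π₁.mapIso e)⟩,
    ⟨(ltObj E S.X₂).symm ≪≫ (DCoh.LTensorCx E.obj).mapIso (Triangle.π₂.mapIso e)⟩,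
    ⟨(ltObj E S.X₃).symm ≪≫ (DCoh.LTensorCx E.obj).mapIso (Triangle.π₃.mapIso e)⟩⟩

theorem nonempty_LT_shift (Z : DCoh.D X) (n : ℤ) :
    Nonempty ((DCoh.LTensorCx E.obj).obj (Z⟦n⟧) ≅ ((DCoh.LTensorCx E.obj).obj Z)⟦n⟧) := by
  let A := DerivedCategory.Q.objPreimage Z
  let a : DerivedCategory.Q.obj A ≅ Z := DerivedCategory.Q.objObjPreimageIso Z
  exact ⟨(DCoh.LTensorCx E.obj).mapIso ((shiftFunctor _ n).mapIso a.symm ≪≫
      ((DerivedCategory.Q.commShiftIso n).app A).symm) ≪≫ ltObj E (A⟦n⟧) ≪≫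
    DerivedCategory.Q.mapIso (CochainComplex.mapBifunctorShift₁Iso A E.obj (TX X) n) ≪≫
    (DerivedCategory.Q.commShiftIso n).app _ ≪≫
    (shiftFunctor _ n).mapIso ((ltObj E A).symm ≪≫ (DCoh.LTensorCx E.obj).mapIso a)⟩

end Groth.Agent.TwistBC9
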