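import Groth.Agent.Lib.TwistBC9.Core
import Groth.Agent.Lib.DGen9.RelFlatFP
import Groth.Agent.Lib.DGen9.RelAmpBC
import Groth.Agent.Lib.RHom.Devissage
import Groth.Agent.Lib.ModM1.FT

/-!
# The twist by a module which is flat over the base
-/

set_option autoImplicit false
set_option linter.style.haveILetI false
set_option linter.unusedSectionVars false
set_option backward.isDefEq.respectTransparency false
set_option backward.isDefEq.respectTransparency.types false
set_option maxHeartbeats 1600000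

universe u

open CategoryTheory CategoryTheory.Limits MonoidalCategory AlgebraicGeometry

attribute [local instance] HasDerivedCategory.standard

namespace Groth.Agent.TwistBC9

open DMon9 DBC9 KFlat KFlat.Sch

attribute [local instance] DBC9.hasRpush

variable {X Y : Scheme.{u}}

/-- Tensoring on the right is a left adjoint. -/
theorem isLeftAdjoint_tensorRight (G : DM X) : (tensorRight G : DM X ⥤ DM X).IsLeftAdjoint := by
  obtain ⟨K, ⟨e⟩⟩ := exists_qM (G : DCoh.D X)
  let e' : (qM X).obj K ≅ G := e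
  haveI := KFlat.Sch.hasLTensorCx K.obj
  haveI : DCoh.HasRSheafHom K.obj := RHom.hasRSheafHom K.obj
  haveI : (tR K).IsLeftAdjoint := ⟨_, ⟨(DCoh.RSheafHomAdj K.obj).ofNatIsoLeft (theta K).symm⟩⟩
  haveI : (tensorRight ((qM X).obj K) : DM X ⥤ DM X).IsLeftAdjoint := inferInstanceAs (tR K).IsLeftAdjoint
  exact Functor.isLeftAdjoint_of_iso ((MonoidalCategory.tensoringRight (DM X)).mapIso e')

/-- The structure sheaf in one degree, among K-flat complexes. -/
noncomputable abbrev oneK (X : Scheme.{u}) (a : ℤ) : KF X :=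
  ⟨RHom.sg a (Coh.structureModule X), RHom.isKFlat_sgOne a⟩

/-- The structure sheaf in one degree, monoidally typed. -/
noncomputable abbrev oneM (X : Scheme.{u}) (a : ℤ) : DM X := (qM X).obj (oneK X a)

/-- Tensoring with the structure sheaf in one degree is a shift. -/
theorem nonempty_oneShift (a : ℤ) :
    Nonempty ((tL (oneK X a) : DCoh.D X ⥤ DCoh.D X) ≅ shiftFunctor (DCoh.D X) (-a)) := by
  haveI := KFlat.Sch.hasLTensorCx (oneK X a).obj
  obtain ⟨c⟩ := nonempty_commIso (oneK X a)
  exact ⟨c ≪≫ theta (oneK X a) ≪≫ RHom.ltSingleIso a⟩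

/-- Derived pullback of the structure sheaf in one degree. -/
theorem nonempty_lP_oneM (f : X ⟶ Y) (a : ℤ) : Nonempty ((lP f).obj (oneD Y a) ≅ oneD X a) :=
  ⟨(lPFac f).app (oneK Y a) ≪≫ DerivedCategory.Q.mapIso
    ((HomologicalComplex.singleMapHomologicalComplex (Scheme.Modules.pullback f) (ComplexShape.up ℤ) a).app _ ≪≫
      (HomologicalComplex.single X.Modules (ComplexShape.up ℤ) a).mapIso (PicLoc.pullbackStructureIso f))⟩

/-- A quasi-coherent module in degree zero. -/
theorem isQCohD_inD (M : X.Modules) (hM : Coh.IsQCoh M) (a : ℤ) :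
    DCoh.IsQCohD ((DerivedCategory.singleFunctor X.Modules a).obj M) :=
  DQC.isQCohD_toD (K := (HomologicalComplex.single X.Modules (ComplexShape.up ℤ) a).obj M) fun i => by
    by_cases hi : i = a
    · subst hi
      exact @M1.isQuasicoherent_of_iso _ _ _ (HomologicalComplex.singleObjXSelf (ComplexShape.up ℤ) i M).symm hM
    · exact DPush.isQCoh_of_isZero (HomologicalComplex.isZero_single_obj_X _ _ _ _ hi)

variable {T T' : Scheme.{u}} (g'' : T' ⟶ T) (G : T.Modules) (G' : T'.Modules)
  (c : (lP g'').obj ((DerivedCategory.singleFunctor T.Modules 0).obj G) ⟶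
    (DerivedCategory.singleFunctor T'.Modules 0).obj G')

/-- A module as an object of the monoidal derived category. -/
noncomputable abbrev modM (G : T.Modules) : DM T := (DerivedCategory.singleFunctor T.Modules 0).obj G

/-- The twist on the source. -/
noncomputable def tenF : DCoh.D T ⥤ DCoh.D T := (tensorRight (modM G) : DM T ⥤ DM T)

/-- The twist on the new source. -/
noncomputable def tenP : DCoh.D T ⥤ DCoh.D T' := lP g'' ⋙ tenF G'

instance isLeftAdjoint_tenF : (tenF G).IsLeftAdjoint := isLeftAdjoint_tensorRight (modM G)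

instance isLeftAdjoint_tenP : (tenP g'' G').IsLeftAdjoint := by
  haveI : (lP g'').IsLeftAdjoint := (adjLP g'').isLeftAdjoint
  exact inferInstanceAs (lP g'' ⋙ tenF G').IsLeftAdjoint

/-- The comparison of the twists, monoidally. -/
noncomputable def tenNatM : (tensorRight (modM G) ⋙ dPull g'' : DM T ⥤ DM T') ⟶
    dPull g'' ⋙ tensorRight (modM G') where
  app E := Functor.OplaxMonoidal.δ (dPull g'') E (modM G) ≫
    (dPull g'').obj E ◁ (c : (dPull g'').obj (modM G) ⟶ modM G')
  naturality E E' w := by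
    change (dPull g'').map (w ▷ modM G) ≫ _ ≫ _ = (_ ≫ _) ≫ (dPull g'').map w ▷ modM G'
    rw [← Functor.OplaxMonoidal.δ_natural_left_assoc, Category.assoc]
    exact congrArg (_ ≫ ·) (MonoidalCategory.whisker_exchange _ _).symm

/-- The comparison of the twists. -/
noncomputable def tenNat : tenF G ⋙ lP g'' ⟶ tenP g'' G' := (tenNatM g'' G G' c :)

theorem isQCohD_tenF (hG : Coh.IsQCoh G) {E : DCoh.D T} (hE : DCoh.IsQCohD E) :
    DCoh.IsQCohD ((tenF G).obj E) :=
  isQCohD_tensor (A := (E : DM T)) (B := modM G) hE (isQCohD_inD G hG 0)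

theorem isIso_lP_tenF {U : Scheme.{u}} (k : U ⟶ T) {E E' : DCoh.D T} (w : E ⟶ E') (hw : IsIso ((lP k).map w)) :
    IsIso ((lP k).map ((tenF G).map w)) := by
  let E₁ : DM T := E
  let E₂ : DM T := E'
  let w' : E₁ ⟶ E₂ := w
  haveI : IsIso ((dPull k).map w') := hw
  change IsIso ((dPull k).map (w' ▷ modM G))
  rw [Functor.Monoidal.map_whiskerRight]
  infer_instance

/-- Twists of direct images from affine opens are direct images. -/
theorem isIso_unit_tenF [QuasiSeparatedSpace T] {U : Scheme.{u}} [IsAffine U] (k : U ⟶ T) [IsOpenImmersion k]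
    (hG : Coh.IsQCoh G) (F : DCoh.D U) (hF : DCoh.IsQCohD F) :
    IsIso ((adjLP k).unit.app ((tenF G).obj ((DCoh.Rpush k).obj F))) := by
  haveI : QuasiCompact (k ≫ terminal.from T) := by
    rw [terminal.comp_from]
    exact (quasiCompact_iff_compactSpace (f := terminal.from U)).2 inferInstance
  haveI : QuasiSeparated (terminal.from T) := (quasiSeparatedSpace_iff_quasiSeparated T).1 inferInstance
  haveI : QuasiCompact k := MorphismProperty.of_postcomp (W' := @QuasiSeparated) _ k (terminal.from T) ‹_› ‹_›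
  haveI := isIso_counit_openImmersion k
  haveI := (adjLP k).fullyFaithfulROfIsIsoCounit.full
  haveI := (adjLP k).fullyFaithfulROfIsIsoCounit.faithful
  let FM : DM U := F
  haveI := isIso_projT k FM hF ((DerivedCategory.singleFunctor T.Modules 0).obj G) (isQCohD_inD G hG 0)
  let p : (tenF G).obj ((DCoh.Rpush k).obj F) ≅
      (DCoh.Rpush k).obj ((midF k FM).obj ((DerivedCategory.singleFunctor T.Modules 0).obj G)) :=
    asIso ((projT k FM).app ((DerivedCategory.singleFunctor T.Modules 0).obj G))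
  exact (adjLP k).isIso_unit_app_of_iso p

/-- The same on the new source. -/
theorem isIso_unit_tenP [QuasiSeparatedSpace T] [QuasiSeparatedSpace T'] [IsAffineHom g''] {U U' : Scheme.{u}}
    [IsAffine U] (k : U ⟶ T) [IsOpenImmersion k] (k' : U' ⟶ T') [IsOpenImmersion k'] (gk : U' ⟶ U)
    (H : IsPullback gk k' k g'') (hG' : Coh.IsQCoh G') (F : DCoh.D U) (hF : DCoh.IsQCohD F) :
    IsIso ((adjLP k').unit.app ((tenP g'' G').obj ((DCoh.Rpush k).obj F))) := by
  haveI : IsAffineHom gk := MorphismProperty.of_isPullback H.flip (inferInstance : IsAffineHom g'')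
  haveI : IsAffine U' := isAffine_of_isAffineHom gk
  haveI : QuasiCompact (k ≫ terminal.from T) := by
    rw [terminal.comp_from]
    exact (quasiCompact_iff_compactSpace (f := terminal.from U)).2 inferInstance
  haveI : QuasiSeparated (terminal.from T) := (quasiSeparatedSpace_iff_quasiSeparated T).1 inferInstance
  haveI : QuasiCompact k := MorphismProperty.of_postcomp (W' := @QuasiSeparated) _ k (terminal.from T) ‹_› ‹_›
  haveI := DBC9.good_main k g'' k' gk H
    (fun U hU U' _ _ V hV hVU => DBC9.torIndep_of_flat_right _ _ (k.flat_appLE hU hV hVU))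
    (adjLP k) (adjLP k') (DBC9.σcan H.w.symm) F hF
  let e : (lP g'').obj ((DCoh.Rpush k).obj F) ≅ (DCoh.Rpush k').obj ((lP gk).obj F) :=
    asIso ((DBC9.bc (adjLP k) (adjLP k') (DBC9.σcan H.w.symm).hom).app F)
  haveI := isIso_unit_tenF G' k' hG' ((lP gk).obj F) (isQCohD_lP gk hF)
  exact (NatTrans.isIso_app_iff_of_iso (adjLP k').unit ((tenF G').mapIso e)).2 this

/-- Truncations shifted by an invertible object. -/
theorem isIso_top_whisker (a : ℤ) {X' : Scheme.{u}} {M N : DM X'} (z : M ⟶ N)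
    (hz : IsIso ((DerivedCategory.homologyFunctor X'.Modules 0).map (z : (M : DCoh.D X') ⟶ N)))
    {P : DM X'} (eP : (P : DCoh.D X') ≅ oneD X' a) :
    IsIso ((DerivedCategory.homologyFunctor X'.Modules a).map
      (P ◁ z : ((P ⊗ M : DM X') : DCoh.D X') ⟶ (P ⊗ N : DM X'))) := by
  obtain ⟨ξ⟩ := nonempty_oneShift (X := X') a
  let eP' : P ≅ oneM X' a := eP
  let H := DerivedCategory.homologyFunctor X'.Modules a
  haveI h1 : IsIso (H.map ((tL (oneK X' a)).map (z : (M : DCoh.D X') ⟶ N))) := by
    refine (NatIso.isIso_map_iff (Functor.isoWhiskerRight ξ H) (z : (M : DCoh.D X') ⟶ N)).2 ?_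
    refine (NatIso.isIso_map_iff ((DerivedCategory.homologyFunctor X'.Modules 0).shiftIso (-a) a 0 (by omega))
      (z : (M : DCoh.D X') ⟶ N)).2 ?_
    exact hz
  have hx : P ◁ z = eP'.hom ▷ M ≫ oneM X' a ◁ z ≫ eP'.inv ▷ N := by
    rw [← MonoidalCategory.whisker_exchange_assoc, ← comp_whiskerRight, Iso.hom_inv_id, id_whiskerRight,
      Category.comp_id]
  rw [hx]
  let a₁ : ((P ⊗ M : DM X') : DCoh.D X') ⟶ (oneM X' a ⊗ M : DM X') := eP'.hom ▷ M
  let a₃ : ((oneM X' a ⊗ N : DM X') : DCoh.D X') ⟶ (P ⊗ N : DM X') := eP'.inv ▷ N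
  haveI : IsIso a₁ := (inferInstance : IsIso (eP'.hom ▷ M))
  haveI : IsIso a₃ := (inferInstance : IsIso (eP'.inv ▷ N))
  haveI : IsIso (H.map a₁ ≫ H.map ((tL (oneK X' a)).map (z : (M : DCoh.D X') ⟶ N)) ≫ H.map a₃) := inferInstance
  rw [← Functor.map_comp, ← Functor.map_comp] at this
  exact this

/-- A module tensored with the structure sheaf in one degree. -/
theorem nonempty_one_tenF (a : ℤ) : Nonempty ((tenF G).obj (oneD T a) ≅
    (DerivedCategory.singleFunctor T.Modules a).obj G) := by
  obtain ⟨ξ⟩ := nonempty_oneShift (X := T) a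
  let GD : DCoh.D T := (DerivedCategory.singleFunctor T.Modules 0).obj G
  let e : (tenF G).obj (oneD T a) ≅ GD⟦-a⟧ := ξ.app GD
  exact ⟨e ≪≫ ((DerivedCategory.singleFunctors T.Modules).shiftIso (-a) a 0 (by omega)).app G⟩

theorem nonempty_lP_single {U : Scheme.{u}} (k : U ⟶ T) [IsOpenImmersion k] (a : ℤ) :
    Nonempty ((lP k).obj ((DerivedCategory.singleFunctor T.Modules a).obj G) ≅
      (DerivedCategory.singleFunctor U.Modules a).obj ((Scheme.Modules.restrictFunctor k).obj G)) :=
  ⟨(lPRes k).app _ ≪≫ ((Scheme.Modules.restrictFunctor k).mapDerivedCategorySingleFunctor a).app G⟩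

/-- The comparison is an isomorphism in the top degree. -/
theorem isIso_top_tenNat (a : ℤ) (hc : IsIso ((DerivedCategory.homologyFunctor T'.Modules 0).map c)) :
    IsIso ((DerivedCategory.homologyFunctor T'.Modules a).map ((tenNat g'' G G' c).app (oneD T a))) := by
  obtain ⟨o⟩ := nonempty_lP_oneM g'' a
  change IsIso ((DerivedCategory.homologyFunctor T'.Modules a).map
    (Functor.OplaxMonoidal.δ (dPull g'') (oneM T a) (modM G) ≫
      (dPull g'').obj (oneM T a) ◁ (c : (dPull g'').obj (modM G) ⟶ modM G')))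
  have h2 := isIso_top_whisker a (c : (dPull g'').obj (modM G) ⟶ modM G') hc
    (P := (dPull g'').obj (oneM T a)) o
  let d₁ : (lP g'').obj ((tenF G).obj (oneD T a)) ⟶
      ((dPull g'').obj (oneM T a) ⊗ (dPull g'').obj (modM G) : DM T') :=
    Functor.OplaxMonoidal.δ (dPull g'') (oneM T a) (modM G)
  haveI : IsIso d₁ :=
    (inferInstance : IsIso (Functor.OplaxMonoidal.δ (dPull g'') (oneM T a) (modM G)))
  haveI := h2
  haveI h3 : IsIso ((DerivedCategory.homologyFunctor T'.Modules a).map d₁ ≫ _) :=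
    @IsIso.comp_isIso _ _ _ _ _ _ _ inferInstance h2
  rw [← Functor.map_comp] at h3
  exact h3

/-- Twisting by a flat module gives a twist. -/
theorem twist_tensor [QuasiSeparatedSpace T] [QuasiSeparatedSpace T'] [IsAffineHom g''] {A : CommRingCat.{u}}
    (fT : T ⟶ Spec A) (hG : Coh.IsQCoh G) (hG' : Coh.IsQCoh G') (hflat : FlatMod.IsFlatOver fT G)
    (θ : tenF G ⋙ lP g'' ⟶ tenP g'' G')
    (hθ : ∀ a : ℤ, IsIso ((DerivedCategory.homologyFunctor T'.Modules a).map (θ.app (oneD T a)))) :
    Twist g'' A fT (tenF G) (tenP g'' G') θ where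
  qcΦ := fun {_} hE => isQCohD_tenF G hG hE
  qcΨ := fun {_} hE => isQCohD_tenF G' hG' (isQCohD_lP g'' hE)
  locΦ := fun {_} k _ {_ _} w hw => isIso_lP_tenF G k w hw
  locΨ := fun {_ _} k _ k' _ gk H {_ _} w hw => by
    refine isIso_lP_tenF G' k' ((lP g'').map w) ?_
    haveI := hw
    exact (NatIso.isIso_map_iff (σcan H.w.symm) w).2 (inferInstanceAs (IsIso ((lP gk).map ((lP k).map w))))
  pushΦ := fun {_} _ k _ F hF => isIso_unit_tenF G k hG F hF
  pushΨ := fun {_ _} _ k _ k' _ gk H F hF => isIso_unit_tenP g'' G' k k' gk H hG' F hF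
  gen := fun {B B'} k _ k' _ gk H φ hφ a => by
    let GB := (Scheme.Modules.restrictFunctor k).obj G
    haveI : Coh.IsQCoh GB := M1.isQCoh_restrict hG k
    let M := (moduleSpecΓFunctor (R := B)).obj GB
    haveI := Scheme.Modules.isIso_fromTildeΓ_of_isQuasicoherent (R := B) GB
    let eM : (tilde.functor B).obj M ≅ GB := asIso GB.fromTildeΓ
    obtain ⟨e₁⟩ := nonempty_one_tenF G a
    obtain ⟨e₂⟩ := nonempty_lP_single G k a
    obtain ⟨e₁'⟩ := nonempty_one_tenF G' a
    obtain ⟨e₂'⟩ := nonempty_lP_single G' k' a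
    obtain ⟨o⟩ := nonempty_lP_oneM g'' a
    refine ⟨M, (Scheme.Modules.restrictFunctor k').obj G', ?_, ⟨?_⟩, ⟨?_⟩, ?_⟩
    · refine RelT.flat_of_isFlatOver_tilde φ M ?_
      rw [hφ]
      exact RelPCS8.isFlatOver_of_iso eM.symm (RelT.isFlatOver_restrict k fT hflat)
    · exact (DerivedCategory.singleFunctor (Spec B).Modules a).mapIso eM ≪≫ e₂.symm ≪≫ (lP k).mapIso e₁.symm
    · exact (lP k').mapIso ((tenF G').mapIso o ≪≫ e₁') ≪≫ e₂'
    · haveI := hθ a
      refine (NatIso.isIso_map_iff (Functor.isoWhiskerRight (lPRes k')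
        (DerivedCategory.homologyFunctor (Spec B').Modules a)) _).2 ?_
      refine (NatIso.isIso_map_iff (hdMapIso (Scheme.Modules.restrictFunctor k') a) _).2 ?_
      exact inferInstanceAs (IsIso ((Scheme.Modules.restrictFunctor k').map
        ((DerivedCategory.homologyFunctor T'.Modules a).map (θ.app (oneD T a)))))

end Groth.Agent.TwistBC9
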