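import Groth.Agent.Lib.TwistBC9.Main
import Groth.Agent.Lib.RHom.Adj
import Groth.Agent.Lib.RHom.SingleTensor

/-!
# Applications of the twisted base change
-/

set_option autoImplicit false
set_option linter.style.haveILetI false
set_option linter.unusedSectionVars false
set_option backward.isDefEq.respectTransparency false
set_option backward.isDefEq.respectTransparency.types false
set_option maxHeartbeats 800000

universe u

open CategoryTheory CategoryTheory.Limits MonoidalCategory AlgebraicGeometry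

attribute [local instance] HasDerivedCategory.standard

namespace Groth.Agent.TwistBC9

open DMon9 DBC9 KFlat KFlat.Sch

attribute [local instance] DBC9.hasRpush

variable {X : Scheme.{u}}

/-- The twist computes the derived tensor product with a module. -/
theorem nonempty_ltensorMod_iso (G : X.Modules) [DCoh.HasLTensorMod G] (E : DCoh.D X) :
    Nonempty ((DCoh.LTensorMod G).obj E ≅ (tenF G).obj E) := by
  obtain ⟨P, hP, ⟨eP⟩⟩ := KFlat.Sch.exists_adapted_rep E
  let S := (HomologicalComplex.single X.Modules (ComplexShape.up ℤ) 0).obj G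
  haveI := KFlat.Sch.hasLTensorCx S
  obtain ⟨K', ⟨eK⟩, hK'⟩ := nonempty_ltensor_iso S
  obtain ⟨a⟩ := hK' E
  haveI : IsIso ((RHom.ltCounit S).app P) := RHom.isIso_counit_kflat S P hP.1
  let c : ((DCoh.LTensorCx S).obj E) ≅ DCoh.toD X (((DCoh.tensorRightMod G).mapHomologicalComplex
      (ComplexShape.up ℤ)).obj P) :=
    (DCoh.LTensorCx S).mapIso eP.symm ≪≫ asIso ((RHom.ltCounit S).app P) ≪≫
      DerivedCategory.Q.mapIso (RHom.singleTensorIso (TX X) 0 G P ≪≫
        (shiftFunctorZero' (CochainComplex X.Modules ℤ) (-0 : ℤ) neg_zero).app _ ≪≫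
        (NatIso.mapHomologicalComplex (tensorRightModIso G) (ComplexShape.up ℤ)).app P)
  let E₁ : DM X := E
  let eK' : (qM X).obj K' ≅ modM G := eK
  let w : (tR K').obj E ≅ (tenF G).obj E := ((tensorLeft E₁).mapIso eK' :)
  exact ⟨(DCoh.LTensorMod G).mapIso eP.symm ≪≫ lTensorModObjIso G P hP ≪≫ c.symm ≪≫ a ≪≫ w⟩

variable {S X' S' : Scheme.{u}}

/-- Base change with the twist, on objects. -/
theorem nonempty_bc_tenF {f : X ⟶ S} [QuasiCompact f] [QuasiSeparated f] {g : S' ⟶ S} {f' : X' ⟶ S'} {g' : X' ⟶ X}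
    (H : IsPullback g' f' f g) (G : X.Modules) (hG : Coh.IsQCoh G) (hflat : FlatMod.IsFlatOver f G)
    (E : DCoh.D X) (hE : DCoh.IsQCohD E) :
    Nonempty ((lP g).obj ((DCoh.Rpush f).obj ((tenF G).obj E)) ≅
      (DCoh.Rpush f').obj ((tenF ((Scheme.Modules.pullback g').obj G)).obj ((lP g').obj E))) := by
  haveI := isIso_twist_bc H G ((Scheme.Modules.pullback g').obj G) ((cTr g').app G) hG
    (M1.isQCoh_pullback g' hG) hflat (isIso_H0_cTr g' G) (adjLP f) (adjLP f') (σcan H.w.symm) E hE
  exact ⟨asIso ((bc (adjLP f) (adjLP f') (σcan H.w.symm).hom).app ((tenF G).obj E) ≫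
    (DCoh.Rpush f').map ((tenNat g' G ((Scheme.Modules.pullback g').obj G) ((cTr g').app G)).app E))⟩

end Groth.Agent.TwistBC9
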