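import Groth.Agent.Lib.DMon9.LPExtra
import Groth.Agent.Lib.KFlat.TorCriterion
import Groth.Agent.Lib.DBC9.Algebra
import Groth.Agent.Lib.DBaseChange.Adj

/-!
# Derived pullback of a module and its truncation
-/

set_option autoImplicit false
set_option linter.unusedSectionVars false
set_option linter.style.haveILetI false
set_option backward.isDefEq.respectTransparency false
set_option backward.isDefEq.respectTransparency.types false
set_option maxHeartbeats 800000

universe v u v' u'

open CategoryTheory CategoryTheory.Limits AlgebraicGeometry Pretriangulated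

attribute [local instance] HasDerivedCategory.standard

namespace Groth.Agent.TwistBC9

section RightExact

variable {A : Type u} [Category.{v} A] [Abelian A] {B : Type u'} [Category.{v'} B] [Abelian B]

/-- A right exact functor preserves resolutions in top degree. -/
theorem quasiIsoAt_map_top (F : A ⥤ B) [F.Additive] [PreservesFiniteColimits F] {M : A} (a : ℤ)
    {R : CochainComplex A ℤ} [R.IsStrictlyLE a]
    (π : R ⟶ (HomologicalComplex.single A (ComplexShape.up ℤ) a).obj M) (hπ : QuasiIsoAt π a) :
    QuasiIsoAt ((F.mapHomologicalComplex (ComplexShape.up ℤ)).map π) a := by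
  have hR : IsZero (R.X (a + 1)) := R.isZero_of_isStrictlyLE a (a + 1) (by omega)
  have hS : ∀ i : ℤ, i ≠ a → IsZero (((HomologicalComplex.single A (ComplexShape.up ℤ) a).obj M).X i) :=
    fun i hi => HomologicalComplex.isZero_single_obj_X _ _ _ _ hi
  rw [quasiIsoAt_iff' π (a - 1) a (a + 1) (by simp) (by simp),
    ShortComplex.quasiIso_iff_of_zeros' _ (hR.eq_of_tgt _ _) ((hS (a - 1) (by omega)).eq_of_src _ _)
      ((hS (a + 1) (by omega)).eq_of_tgt _ _)] at hπ
  rw [quasiIsoAt_iff' _ (a - 1) a (a + 1) (by simp) (by simp),
    ShortComplex.quasiIso_iff_of_zeros' _ ((F.map_isZero hR).eq_of_tgt _ _)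
      ((F.map_isZero (hS (a - 1) (by omega))).eq_of_src _ _) ((F.map_isZero (hS (a + 1) (by omega))).eq_of_tgt _ _)]
  haveI := hπ.2
  refine ⟨(hπ.1.map_of_epi_of_preservesCokernel F hπ.2 inferInstance :), ?_⟩
  have he : Epi (π.f a) := hπ.2
  exact (inferInstance : Epi (F.map (π.f a)))

/-- Maps out of an object in non-positive degrees to a module factor through the top cohomology. -/
theorem exists_factor {X : DerivedCategory A} (a : ℤ) [X.IsLE a] {N N' : A}
    (p : X ⟶ (DerivedCategory.singleFunctor A a).obj N)
    (hp : IsIso ((DerivedCategory.homologyFunctor A a).map p))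
    (q : X ⟶ (DerivedCategory.singleFunctor A a).obj N') :
    ∃ d : N ⟶ N', q = p ≫ (DerivedCategory.singleFunctor A a).map d := by
  obtain ⟨C, ι, δ, hT⟩ := distinguished_cocone_triangle₁ p
  let T := Triangle.mk ι p δ
  haveI hC : C.IsLE (a - 1) := by
    rw [DerivedCategory.isLE_iff]
    intro i hi
    have e₁ := DerivedCategory.HomologySequence.exact₂ T hT i
    have e₀ := DerivedCategory.HomologySequence.exact₁ T hT (i - 1) i (by omega)
    refine ShortComplex.Exact.isZero_X₂ e₀ ?_ ?_
    · rcases eq_or_ne (i - 1) a with rfl | hne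
      · have hepi : Epi ((DerivedCategory.homologyFunctor A (i - 1)).map T.mor₂) :=
          (inferInstance : Epi ((DerivedCategory.homologyFunctor A (i - 1)).map p))
        exact (DerivedCategory.HomologySequence.epi_homologyMap_mor₂_iff T hT (i - 1) i (by omega)).1 hepi
      · refine IsZero.eq_of_src ?_ _ _
        rcases lt_or_gt_of_ne hne with h | h
        · exact DerivedCategory.isZero_of_isGE ((DerivedCategory.singleFunctor A a).obj N) a (i - 1) h
        · exact DerivedCategory.isZero_of_isLE ((DerivedCategory.singleFunctor A a).obj N) a (i - 1) h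
    · rcases eq_or_ne i a with rfl | hne
      · have hmono : Mono ((DerivedCategory.homologyFunctor A i).map T.mor₂) :=
          (inferInstance : Mono ((DerivedCategory.homologyFunctor A i).map p))
        exact (DerivedCategory.HomologySequence.mono_homologyMap_mor₂_iff T hT i).1 hmono
      · exact IsZero.eq_of_tgt (DerivedCategory.isZero_of_isLE X a i (by omega)) _ _
  obtain ⟨g, hg⟩ := Triangle.yoneda_exact₂ T hT q
    (DerivedCategory.TStructure.t.zero (ι ≫ q) (a - 1) a (by omega))
  obtain ⟨d, hd⟩ := (DerivedCategory.singleFunctor A a).map_surjective g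
  exact ⟨d, by rw [hd]; exact hg⟩

/-- If both maps are isomorphisms in top degree, the factor is an isomorphism. -/
theorem exists_factor_iso {X : DerivedCategory A} (a : ℤ) [X.IsLE a] {N N' : A}
    (p : X ⟶ (DerivedCategory.singleFunctor A a).obj N)
    (hp : IsIso ((DerivedCategory.homologyFunctor A a).map p))
    (q : X ⟶ (DerivedCategory.singleFunctor A a).obj N')
    (hq : IsIso ((DerivedCategory.homologyFunctor A a).map q)) :
    ∃ d : N ⟶ N', IsIso d ∧ q = p ≫ (DerivedCategory.singleFunctor A a).map d := by
  obtain ⟨d, hd⟩ := exists_factor a p hp q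
  refine ⟨d, ?_, hd⟩
  haveI : IsIso ((DerivedCategory.homologyFunctor A a).map p ≫
      (DerivedCategory.homologyFunctor A a).map ((DerivedCategory.singleFunctor A a).map d)) := by
    rw [← Functor.map_comp, ← hd]
    exact hq
  haveI := IsIso.of_isIso_comp_left ((DerivedCategory.homologyFunctor A a).map p)
    ((DerivedCategory.homologyFunctor A a).map ((DerivedCategory.singleFunctor A a).map d))
  exact (NatIso.isIso_map_iff (DerivedCategory.singleFunctorCompHomologyFunctorIso A a) d).1
    (inferInstanceAs (IsIso ((DerivedCategory.homologyFunctor A a).map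
      ((DerivedCategory.singleFunctor A a).map d))))

end RightExact

section Pullback

open DMon9 KFlat KFlat.Sch

variable {X Y : Scheme.{u}} (f : X ⟶ Y)

/-- The derived pullback of a module maps to the pullback. -/
noncomputable def cTr : DerivedCategory.singleFunctor Y.Modules 0 ⋙ lP f ⟶
    Scheme.Modules.pullback f ⋙ DerivedCategory.singleFunctor X.Modules 0 where
  app M := (lPα f).app ((HomologicalComplex.single Y.Modules (ComplexShape.up ℤ) 0).obj M) ≫
    DerivedCategory.Q.map
      ((HomologicalComplex.singleMapHomologicalComplex (Scheme.Modules.pullback f) (ComplexShape.up ℤ) 0).hom.app M)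
  naturality M N φ := by
    have h1 := (lPα f).naturality ((HomologicalComplex.single Y.Modules (ComplexShape.up ℤ) 0).map φ)
    have h2 := congrArg DerivedCategory.Q.map
      ((HomologicalComplex.singleMapHomologicalComplex (Scheme.Modules.pullback f) (ComplexShape.up ℤ) 0).hom.naturality φ)
    simp only [Functor.comp_map, Functor.map_comp] at h1 h2
    change (lP f).map (DerivedCategory.Q.map _) ≫ _ ≫ _ = _
    exact ((Category.assoc _ _ _).symm.trans ((congrArg (· ≫ _) h1).trans ((Category.assoc _ _ _).trans
      ((congrArg (_ ≫ ·) h2).trans (Category.assoc _ _ _).symm))))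

/-- A flat resolution in non-positive degrees. -/
theorem exists_res (M : Y.Modules) :
    ∃ (R : CochainComplex Y.Modules ℤ) (π : R ⟶ (HomologicalComplex.single Y.Modules (ComplexShape.up ℤ) 0).obj M),
      R.IsStrictlyLE 0 ∧ IsKFlat (TX Y) R ∧ QuasiIso π := by
  let S := (CochainComplex.singleFunctor Y.Modules 0).obj M
  exact ⟨resObj (cover Y) S, resπ (cover Y) S, resObj_isStrictlyLE (cover Y) S 0, (isAdapted_resObj S).1,
    quasiIso_resπ (cover Y) S⟩

/-- The derived pullback of a module is in non-positive degrees. -/
theorem isLE_lP_single (M : Y.Modules) :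
    ((lP f).obj ((DerivedCategory.singleFunctor Y.Modules 0).obj M)).IsLE 0 := by
  obtain ⟨R, π, hR, hK, hπ⟩ := exists_res M
  haveI := hR
  haveI := hπ
  haveI := isIso_lPα f R hK
  haveI : CochainComplex.IsStrictlyLE
      (((Scheme.Modules.pullback f).mapHomologicalComplex (ComplexShape.up ℤ)).obj R) 0 :=
    (CochainComplex.isStrictlyLE_iff _ _).2 fun i hi =>
      (Scheme.Modules.pullback f).map_isZero (R.isZero_of_isStrictlyLE 0 i hi)
  haveI : DerivedCategory.TStructure.t.IsLE ((pullCx f ⋙ DerivedCategory.Q).obj R) 0 :=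
    inferInstanceAs ((DerivedCategory.Q.obj
      (((Scheme.Modules.pullback f).mapHomologicalComplex (ComplexShape.up ℤ)).obj R)).IsLE 0)
  let e : DerivedCategory.Q.obj R ≅ (DerivedCategory.singleFunctor Y.Modules 0).obj M :=
    asIso (DerivedCategory.Q.map π)
  exact DerivedCategory.TStructure.t.isLE_of_iso ((asIso ((lPα f).app R)).symm ≪≫ (lP f).mapIso e) 0

/-- The comparison is an isomorphism in degree zero. -/
theorem isIso_H0_cTr (M : Y.Modules) :
    IsIso ((DerivedCategory.homologyFunctor X.Modules 0).map ((cTr f).app M)) := by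
  obtain ⟨R, π, hR, hK, hπ⟩ := exists_res M
  haveI := hR
  haveI := hπ
  haveI := isIso_lPα f R hK
  haveI : IsIso (DerivedCategory.Q.map π) := inferInstance
  let H := DerivedCategory.homologyFunctor X.Modules 0
  haveI : QuasiIsoAt (((Scheme.Modules.pullback f).mapHomologicalComplex (ComplexShape.up ℤ)).map π) 0 :=
    quasiIsoAt_map_top (Scheme.Modules.pullback f) 0 π inferInstance
  haveI : IsIso (H.map (DerivedCategory.Q.map
      (((Scheme.Modules.pullback f).mapHomologicalComplex (ComplexShape.up ℤ)).map π))) :=
    (NatIso.isIso_map_iff (DerivedCategory.homologyFunctorFactors X.Modules 0) _).2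
      ((quasiIsoAt_iff_isIso_homologyMap _ 0).1 inferInstance)
  have hn : (lP f).map (DerivedCategory.Q.map π) ≫ (lPα f).app _ =
      (lPα f).app R ≫ DerivedCategory.Q.map
        (((Scheme.Modules.pullback f).mapHomologicalComplex (ComplexShape.up ℤ)).map π) := (lPα f).naturality π
  haveI : IsIso (H.map ((lP f).map (DerivedCategory.Q.map π) ≫ (lPα f).app _)) := by
    rw [hn, Functor.map_comp]
    infer_instance
  haveI : IsIso (H.map ((lP f).map (DerivedCategory.Q.map π)) ≫ H.map ((lPα f).app _)) := by
    rw [← Functor.map_comp]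
    infer_instance
  haveI := IsIso.of_isIso_comp_left (H.map ((lP f).map (DerivedCategory.Q.map π))) (H.map ((lPα f).app
    ((HomologicalComplex.single Y.Modules (ComplexShape.up ℤ) 0).obj M)))
  change IsIso (H.map (_ ≫ DerivedCategory.Q.map _))
  rw [Functor.map_comp]
  infer_instance

end Pullback

section Rings

open DBC9 DBaseChange KFlat KFlat.Module

variable {A B : Type u} [CommRing A] [CommRing B] (φ : A →+* B) [DRing.HasLBaseChange φ]

/-- Derived base change of a module agrees with base change in degree zero. -/
theorem isLE_isIso_top_νT (a : ℤ) (M : ModuleCat.{u} A) :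
    ((DRing.LBaseChange φ).obj ((TT A a).obj M)).IsLE a ∧
      IsIso ((DerivedCategory.homologyFunctor (ModuleCat.{u} B) a).map ((νT φ a).app M)) := by
  let S := (CochainComplex.singleFunctor (ModuleCat.{u} A) a).obj M
  let R := (DT.res A).obj S
  let π : R ⟶ S := (DT.aug A).app S
  haveI hπ : QuasiIso π := DT.qis_aug S
  haveI hR : R.IsStrictlyLE a := resObj_isStrictlyLE _ S a
  have hK : Adapted R := adapted_res S
  haveI := isIso_valueMap φ R hK
  let F := ModuleCat.extendScalars.{u, u, u} φ
  haveI : PreservesColimitsOfSize.{0, 0} F :=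
    (ModuleCat.extendRestrictScalarsAdj φ).leftAdjoint_preservesColimits
  let H := DerivedCategory.homologyFunctor (ModuleCat.{u} B) a
  haveI : CochainComplex.IsStrictlyLE ((F.mapHomologicalComplex (ComplexShape.up ℤ)).obj R) a :=
    (CochainComplex.isStrictlyLE_iff _ _).2 fun i hi => F.map_isZero (R.isZero_of_isStrictlyLE a i hi)
  haveI : DerivedCategory.TStructure.t.IsLE ((DTen.extCx φ ⋙ DerivedCategory.Q).obj R) a :=
    inferInstanceAs ((DerivedCategory.Q.obj ((F.mapHomologicalComplex (ComplexShape.up ℤ)).obj R)).IsLE a)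
  haveI : IsIso (DerivedCategory.Q.map π) := inferInstance
  let e : DerivedCategory.Q.obj R ≅ (TT A a).obj M := asIso (DerivedCategory.Q.map π)
  refine ⟨DerivedCategory.TStructure.t.isLE_of_iso ((asIso ((valueMap φ).app R)).symm ≪≫
    (DRing.LBaseChange φ).mapIso e) a, ?_⟩
  haveI : QuasiIsoAt ((F.mapHomologicalComplex (ComplexShape.up ℤ)).map π) a :=
    quasiIsoAt_map_top F a π inferInstance
  haveI : IsIso (H.map (DerivedCategory.Q.map ((F.mapHomologicalComplex (ComplexShape.up ℤ)).map π))) :=
    (NatIso.isIso_map_iff (DerivedCategory.homologyFunctorFactors (ModuleCat.{u} B) a) _).2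
      ((quasiIsoAt_iff_isIso_homologyMap _ a).1 inferInstance)
  have hn : (DRing.LBaseChange φ).map (DerivedCategory.Q.map π) ≫ (valueMap φ).app _ =
      (valueMap φ).app R ≫ DerivedCategory.Q.map ((F.mapHomologicalComplex (ComplexShape.up ℤ)).map π) :=
    (valueMap φ).naturality π
  haveI : IsIso (H.map ((DRing.LBaseChange φ).map (DerivedCategory.Q.map π)) ≫ H.map ((valueMap φ).app S)) := by
    rw [← Functor.map_comp, hn, Functor.map_comp]
    infer_instance
  haveI := IsIso.of_isIso_comp_left (H.map ((DRing.LBaseChange φ).map (DerivedCategory.Q.map π)))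
    (H.map ((valueMap φ).app S))
  change IsIso (H.map ((valueMap φ).app S ≫ DerivedCategory.Q.map _))
  rw [Functor.map_comp]
  infer_instance

end Rings

end Groth.Agent.TwistBC9
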