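import Groth.Agent.Lib.TwistBC9.FibreCok
import Groth.Agent.Lib.DPerf.OneDegree
import Groth.Agent.Lib.DMod.Homology
import Groth.Agent.Lib.DerTrunc.Basic
import Groth.Agent.Lib.KFlat.LTor
import Groth.Agent.Lib.DGen9.Basics

/-!
# Splitting off the degree zero cohomology of a perfect complex
-/

set_option autoImplicit false
set_option linter.style.haveILetI false
set_option linter.unusedSectionVars false
set_option backward.isDefEq.respectTransparency false
set_option backward.isDefEq.respectTransparency.types false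
set_option maxHeartbeats 800000

universe u

open CategoryTheory CategoryTheory.Limits AlgebraicGeometry Pretriangulated
open scoped TensorProduct
open DerivedCategory.TStructure

attribute [local instance] HasDerivedCategory.standard

namespace Groth.Agent.TwistBC9

open DPerf

section Module

variable {R : Type u} [CommRing R] (P : DRing.Cx R)

/-- Cycles modulo boundaries are the kernel out of the cokernel. -/
theorem nonempty_homology_equiv_ker : Nonempty (P.homology 0 ≃ₗ[R] LinearMap.ker (dBar P)) := by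
  let S := P.sc' (0 - 1) 0 (0 + 1)
  let π : LinearMap.ker S.g.hom →ₗ[R] LinearMap.ker (dBar P) :=
    LinearMap.codRestrict _ ((LinearMap.range (P.d (0 - 1) 0).hom).mkQ ∘ₗ (LinearMap.ker S.g.hom).subtype)
      fun z => z.2
  let B := LinearMap.range S.moduleCatToCycles
  have hB : B = LinearMap.ker π := by
    ext z
    constructor
    · rintro ⟨y, rfl⟩
      exact Subtype.ext ((Submodule.Quotient.mk_eq_zero _).2 ⟨y, rfl⟩)
    · intro hz
      obtain ⟨y, hy⟩ := (Submodule.Quotient.mk_eq_zero _).1 (congrArg Subtype.val hz :)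
      exact ⟨y, Subtype.ext hy⟩
  have hπ : Function.Surjective π := fun w => by
    obtain ⟨x, hx⟩ := Submodule.mkQ_surjective _ (w : CZero P)
    have hx' : dBar P (Submodule.Quotient.mk x) = 0 := by
      rw [← Submodule.mkQ_apply, hx]
      exact w.2
    exact ⟨⟨x, hx'⟩, Subtype.ext hx⟩
  exact ⟨((P.homologyIsoSc' (0 - 1) 0 (0 + 1) (by simp) (by simp)) ≪≫ S.moduleCatHomologyIso).toLinearEquiv.trans
    ((Submodule.quotEquivOfEq _ _ hB).trans (π.quotKerEquivOfSurjective hπ))⟩

/-- A projective cokernel gives a chain retraction onto the kernel. -/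
theorem exists_retraction (h : Module.Projective R (P.X (0 + 1) ⧸ LinearMap.range (P.d 0 (0 + 1)).hom))
    [Module.Projective R (P.X (0 + 1))] :
    ∃ φ : P ⟶ (HomologicalComplex.single (ModuleCat.{u} R) (ComplexShape.up ℤ) 0).obj
        (ModuleCat.of R (LinearMap.ker (dBar P))),
      IsIso (HomologicalComplex.homologyMap φ 0) := by
  let d := dBar P
  let N := LinearMap.range d
  haveI : Module.Projective R ((P.X (0 + 1)) ⧸ N) :=
    Module.Projective.of_equiv (Submodule.quotEquivOfEq _ _ (range_dBar P).symm)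
  obtain ⟨s, hs⟩ := Module.projective_lifting_property N.mkQ LinearMap.id (Submodule.mkQ_surjective _)
  haveI : Module.Projective R N :=
    Module.Projective.of_split N.subtype
      (LinearMap.codRestrict N (LinearMap.id - s ∘ₗ N.mkQ) fun x => by
        rw [← Submodule.Quotient.mk_eq_zero]
        have := LinearMap.congr_fun hs (N.mkQ x)
        simp only [LinearMap.comp_apply, LinearMap.id_apply, Submodule.mkQ_apply] at this
        rw [LinearMap.sub_apply, LinearMap.id_apply, LinearMap.comp_apply, Submodule.mkQ_apply,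
          Submodule.Quotient.mk_sub, this, sub_self])
      (LinearMap.ext fun x => Subtype.ext (by simp [(Submodule.Quotient.mk_eq_zero N).2 x.2]))
  obtain ⟨σ, hσ⟩ := Module.projective_lifting_property d.rangeRestrict LinearMap.id d.surjective_rangeRestrict
  have hσ' : ∀ c, d (σ (d.rangeRestrict c)) = d c := fun c =>
    congrArg Subtype.val (LinearMap.congr_fun hσ (d.rangeRestrict c))
  let r : CZero P →ₗ[R] LinearMap.ker d :=
    LinearMap.codRestrict _ (LinearMap.id - σ ∘ₗ d.rangeRestrict) fun c => by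
      rw [LinearMap.mem_ker, LinearMap.sub_apply, map_sub, LinearMap.comp_apply, hσ']
      exact sub_self _
  have hr : ∀ c : LinearMap.ker d, r c = c := fun c => Subtype.ext (by
    have : d.rangeRestrict (c : CZero P) = 0 := Subtype.ext c.2
    change (c : CZero P) - σ (d.rangeRestrict (c : CZero P)) = c
    rw [this, map_zero, sub_zero])
  let q := (LinearMap.range (P.d (0 - 1) 0).hom).mkQ
  let φ₀ : P.X 0 ⟶ ModuleCat.of R (LinearMap.ker d) := ModuleCat.ofHom (r ∘ₗ q)
  have hφ₀ : ∀ i, (ComplexShape.up ℤ).Rel i 0 → P.d i 0 ≫ φ₀ = 0 := fun i hi => by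
    obtain rfl : i = 0 - 1 := by simp at hi; omega
    refine ModuleCat.hom_ext (LinearMap.ext fun y => ?_)
    have : q (P.d (0 - 1) 0 y) = 0 := (Submodule.Quotient.mk_eq_zero _).2 ⟨y, rfl⟩
    change r (q (P.d (0 - 1) 0 y)) = 0
    rw [this, map_zero]
  let φ := HomologicalComplex.mkHomToSingle φ₀ hφ₀
  let e := HomologicalComplex.singleObjXSelf (ComplexShape.up ℤ) 0 (ModuleCat.of R (LinearMap.ker d))
  have hf : ∀ x : P.X 0, φ.f 0 x = e.inv (r (q x)) := fun x => by
    rw [HomologicalComplex.mkHomToSingle_f]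
    rfl
  refine ⟨φ, (ConcreteCategory.isIso_iff_bijective _).2
    (DMod.homologyMap_bijective_of φ (i := 0 - 1) (k := 0 + 1) (by simp) (by simp) ?_ ?_)⟩
  · intro x _
    obtain ⟨w, hw⟩ := Submodule.mkQ_surjective _ ((e.hom x : LinearMap.ker d) : CZero P)
    refine ⟨w, 0, ?_, ?_⟩
    · have hd : d (q w) = 0 := by
        rw [hw]
        exact (e.hom x : LinearMap.ker d).2
      exact hd
    · rw [map_zero, add_zero, hf]
      change e.inv (r (q w)) = x
      rw [show q w = ((e.hom x : LinearMap.ker d) : CZero P) from hw, hr]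
      exact e.toLinearEquiv.symm_apply_apply x
  · intro w y hw hy
    rw [HomologicalComplex.single_obj_d, hf] at hy
    have h0 : r (q w) = 0 := by
      apply e.toLinearEquiv.symm.injective
      rw [map_zero]
      exact hy.symm
    have h1 : r (q w) = ⟨q w, hw⟩ := hr ⟨q w, hw⟩
    obtain ⟨v, hv⟩ := (Submodule.Quotient.mk_eq_zero _).1 (congrArg Subtype.val (h1.symm.trans h0) :)
    exact ⟨v, hv⟩

end Module

/-- Splitting on an affine chart. -/
theorem exists_split_spec {R : CommRingCat.{u}} [Nontrivial R] (P : DRing.Cx R) (a b : ℤ)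
    (hP : DRing.VanishesOutside P a b) (hF : DRing.TermwiseFiniteFree P)
    (hlow : ∀ l, l < 0 → IsZero (DCoh.HD (DCoh.toD (Spec R) ((tildeX R).obj P)) l)) (n : ℕ)
    (e₀ : DCoh.HD (DCoh.toD (Spec R) ((tildeX R).obj P)) 0 ≅ FlatMod.freeMod (Spec R) n)
    (hbetti : ∀ (K : Type u) [Field K] [Algebra R K],
      Module.finrank K (((RankSC.extCx (algebraMap R K)).obj P).homology 0) ≤ n) :
    ∃ (Q : DCoh.D (Spec R)) (c : ℤ), DCoh.IsPerfect Q ∧ DCoh.HasFlatAmplitudeIn 1 c Q ∧
      Nonempty (DCoh.toD (Spec R) ((tildeX R).obj P) ≅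
        DCoh.inD (Spec R) (DCoh.HD (DCoh.toD (Spec R) ((tildeX R).obj P)) 0) ⊞ Q) := by
  haveI := fun i => (hF i).1
  haveI := fun i => (hF i).2
  let K := (tildeX R).obj P
  let T := DCoh.toD (Spec R) K
  let iH : DCoh.HD T 0 ≅ (tilde.functor R).obj (P.homology 0) :=
    (DerivedCategory.homologyFunctorFactors _ 0).app K ≪≫ (P.sc 0).mapHomologyIso (tilde.functor R)
  let eH : P.homology 0 ≅ ModuleCat.of R (ULift.{u} (Fin n) →₀ R) := (tilde.functor R).preimageIso
    (iH.symm ≪≫ e₀ ≪≫ M1.freeModFrIso _ n ≪≫ (M1.frTildeIso _).symm)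
  obtain ⟨eK⟩ := nonempty_homology_equiv_ker P
  let bK : Module.Basis (Fin n) R (LinearMap.ker (dBar P)) :=
    ((Finsupp.basisSingleOne.map (eH.toLinearEquiv.symm.trans eK))).reindex Equiv.ulift
  have hproj := projective_coker P n bK hbetti
  obtain ⟨φ, hφ⟩ := exists_retraction P hproj
  let M₀ := (tilde.functor R).obj (ModuleCat.of R (LinearMap.ker (dBar P)))
  let ρ : T ⟶ (DerivedCategory.singleFunctor (Spec R).Modules 0).obj M₀ :=
    DerivedCategory.Q.map ((tildeX R).map φ ≫
      ((HomologicalComplex.singleMapHomologicalComplex (tilde.functor R) (ComplexShape.up ℤ) 0).app _).hom) ≫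
      ((DerivedCategory.singleFunctorIsoCompQ (Spec R).Modules 0).app M₀).inv
  have hρ : IsIso ((DerivedCategory.homologyFunctor _ 0).map ρ) := by
    haveI : QuasiIsoAt φ 0 := (quasiIsoAt_iff_isIso_homologyMap φ 0).2 hφ
    haveI : (tilde.functor R).PreservesHomology := inferInstance
    haveI : QuasiIsoAt ((tildeX R).map φ) 0 :=
      HomologicalComplex.quasiIsoAt_map_of_preservesHomology φ (tilde.functor R) 0
    haveI : IsIso (HomologicalComplex.homologyMap ((tildeX R).map φ) 0) :=
      (quasiIsoAt_iff_isIso_homologyMap _ 0).1 inferInstance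
    haveI : IsIso ((DerivedCategory.homologyFunctor _ 0).map (DerivedCategory.Q.map ((tildeX R).map φ))) :=
      (NatIso.isIso_map_iff (DerivedCategory.homologyFunctorFactors (Spec R).Modules 0) _).2 this
    simp only [ρ, Functor.map_comp]
    infer_instance
  haveI : T.IsGE 0 := (DerivedCategory.isGE_iff T 0).2 hlow
  -- the degree zero part
  let T₀ := (t.truncLT 1).obj T
  haveI : DerivedCategory.IsGE T₀ 0 := (inferInstance : t.IsGE ((t.truncLT 1).obj T) 0)
  haveI : DerivedCategory.IsLE T₀ 0 := t.isLE_truncLT_obj T 1 0 (by omega)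
  let ι : T₀ ⟶ T := (t.truncLTι 1).app T
  haveI : IsIso (ι ≫ ρ) := by
    refine (DerivedCategory.isIso_iff (C := (Spec R).Modules) _).2 fun l => ?_
    rcases eq_or_ne l 0 with rfl | hl
    · haveI := DerTrunc.isIso_homology_truncLTι T 1 0 (by omega)
      rw [Functor.map_comp]
      infer_instance
    · refine ⟨0, ?_, ?_⟩ <;>
      · rcases lt_or_gt_of_ne hl with h | h
        · first
            | exact (DerivedCategory.isZero_of_isGE T₀ 0 l h).eq_of_src _ _
            | exact (DerivedCategory.isZero_of_isGE ((DerivedCategory.singleFunctor (Spec R).Modules 0).obj M₀) 0 l h).eq_of_src _ _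
        · first
            | exact (DerivedCategory.isZero_of_isLE T₀ 0 l h).eq_of_src _ _
            | exact (DerivedCategory.isZero_of_isLE ((DerivedCategory.singleFunctor (Spec R).Modules 0).obj M₀) 0 l h).eq_of_src _ _
  let j₀ : T₀ ≅ (DerivedCategory.singleFunctor (Spec R).Modules 0).obj M₀ := asIso (ι ≫ ρ)
  haveI : Mono ι := (SplitMono.mk (ρ ≫ inv (ι ≫ ρ)) (by rw [← Category.assoc, IsIso.hom_inv_id])).mono
  let Tr := (t.triangleLTGE 1).obj T
  have hTr : Tr ∈ distTriang _ := t.triangleLTGE_distinguished 1 T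
  obtain ⟨eT, -, -⟩ := exists_iso_binaryBiproduct_of_distTriang Tr hTr
    (Triangle.mor₃_eq_zero_of_mono₁ _ hTr ‹Mono ι›)
  let Q₀ := (t.truncGE 1).obj T
  -- the positive part is strictly perfect
  have hd : FlatMod.IsFinLocFree (cokernel (K.d (1 - 1) 1)) := by
    haveI : Module.Finite R (P.X (0 + 1) ⧸ LinearMap.range (P.d 0 (0 + 1)).hom) := inferInstance
    have h1 : FlatMod.IsFinLocFree (cokernel (K.d 0 (0 + 1))) :=
      M2.isFinLocFree_of_iso ((tilde.functor R).mapIso (ModuleCat.cokernelIsoRangeQuotient (P.d 0 (0 + 1))).symm ≪≫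
        PreservesCokernel.iso (tilde.functor R) (P.d 0 (0 + 1)))
        (haveI := hproj; isFinLocFree_tilde (M := ModuleCat.of R (P.X (0 + 1) ⧸ LinearMap.range (P.d 0 (0 + 1)).hom)))
    rw [sub_self]
    exact h1
  have hKs : DCoh.IsStrictlyPerfect K := isStrictlyPerfect_tildeX hP fun i =>
    ⟨(hF i).1, haveI := (hF i).2; inferInstance⟩
  have hGs : DCoh.IsStrictlyPerfect (K.truncGE 1) := isStrictlyPerfect_truncGE hKs 1 hd
  let G := DCoh.toD (Spec R) (K.truncGE 1)
  haveI : DerivedCategory.IsGE G 1 := inferInstance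
  let β : Q₀ ⟶ G := t.descTruncGE (DerivedCategory.Q.map (K.πTruncGE 1) : T ⟶ G) 1
  haveI : IsIso β := by
    refine (DerivedCategory.isIso_iff (C := (Spec R).Modules) _).2 fun l => ?_
    haveI : DerivedCategory.IsGE Q₀ 1 := (inferInstance : t.IsGE ((t.truncGE 1).obj T) 1)
    by_cases hl : 1 ≤ l
    · haveI := DerTrunc.isIso_homology_truncGEπ T 1 l hl
      have hπ : IsIso ((DerivedCategory.homologyFunctor _ l).map (DerivedCategory.Q.map (K.πTruncGE 1))) := by
        refine (NatIso.isIso_map_iff (DerivedCategory.homologyFunctorFactors (Spec R).Modules l) _).2 ?_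
        exact (quasiIsoAt_iff_isIso_homologyMap _ l).1 (CochainComplex.quasiIsoAt_πTruncGE K 1 l hl)
      rw [← t.π_descTruncGE (DerivedCategory.Q.map (K.πTruncGE 1) : T ⟶ G) 1, Functor.map_comp] at hπ
      exact IsIso.of_isIso_comp_left ((DerivedCategory.homologyFunctor _ l).map ((t.truncGEπ 1).app T)) _
    · exact ⟨0, (DerivedCategory.isZero_of_isGE Q₀ 1 l (by omega)).eq_of_src _ _,
        (DerivedCategory.isZero_of_isGE G 1 l (by omega)).eq_of_src _ _⟩
  refine ⟨G, max 1 b, ?_, ⟨K.truncGE 1, fun i hi => ?_,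
    fun i => KFlat.Sch.isFlat_of_isFinLocFree (hGs.2 i), ⟨Iso.refl _⟩⟩, ⟨?_⟩⟩
  · exact isPerfect_iff_approx.2 fun x => ⟨_, 𝟙 _, inferInstance, ⟨x, rfl⟩, _, isStrictlyPerfect_res (𝟙 _) hGs,
      (resFac (𝟙 _)).inv.app _, @dcond_of_isIso _ _ _ _ _ _ _ _ ((resFac (𝟙 _)).app _).isIso_inv⟩
  · rcases hi with hi | hi
    · exact (K.truncGE 1).isZero_of_isStrictlyGE 1 i hi
    · exact ((tilde.functor R).map_isZero (hP i (Or.inr (by omega)))).of_iso
        (CochainComplex.truncGEXIso K 1 i (by omega))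
  · let eM : M₀ ≅ DCoh.HD T 0 :=
      ((DerivedCategory.singleFunctorCompHomologyFunctorIso (Spec R).Modules 0).app M₀).symm ≪≫
        (haveI := hρ; (asIso ((DerivedCategory.homologyFunctor _ 0).map ρ)).symm)
    exact eT ≪≫
      biprod.mapIso (j₀ ≪≫ (DerivedCategory.singleFunctor (Spec R).Modules 0).mapIso eM) (asIso β)

/-- Splitting near every point, from the size of the fibre cohomology in degree zero. -/
theorem exists_split_local {S : Scheme.{u}} {E : DCoh.D S} (hE : DCoh.IsPerfect E)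
    [∀ x : S, DCoh.HasLpull (S.fromSpecResidueField x)]
    (hlow : ∀ l, l < 0 → IsZero (DCoh.HD E l)) (n : ℕ) (e₀ : DCoh.HD E 0 ≅ FlatMod.freeMod S n)
    (hbetti : ∀ x : S, PerfD.betti E x 0 ≤ n) (s : S) :
    ∃ V : S.Opens, s ∈ V ∧ ∃ (Q : DCoh.D (V : Scheme.{u})) (c : ℤ), DCoh.IsPerfect Q ∧
      DCoh.HasTorAmplitudeIn 1 c Q ∧
        Nonempty ((resD V.ι).obj E ≅ DCoh.inD (V : Scheme.{u}) (FlatMod.freeMod (V : Scheme.{u}) n) ⊞ Q) := by
  obtain ⟨R, j, hj, P, a, b, hR, hs, hP, hF, α, hα⟩ := exists_perfect_chart hE s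
  haveI := isIso_of_dcond_univ hα
  let eα : DCoh.toD (Spec R) ((tildeX R).obj P) ≅ (resD j).obj E := asIso α
  let eH : ∀ l, DCoh.HD (DCoh.toD (Spec R) ((tildeX R).obj P)) l ≅ (DCoh.HD E l).restrict j := fun l =>
    (DerivedCategory.homologyFunctor _ l).mapIso eα ≪≫ hdResIso j E l
  obtain ⟨Q, c, hQ, hamp, ⟨e⟩⟩ := exists_split_spec P a b hP hF
    (fun l hl => ((Scheme.Modules.restrictFunctor j).map_isZero (hlow l hl)).of_iso (eH l)) n
    (eH 0 ≪≫ (Scheme.Modules.restrictFunctor j).mapIso e₀ ≪≫ M2.freeModRestrictIso j n) (fun K _ _ => by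
      let z : Spec R := (⟨RingHom.ker (algebraMap R K), RingHom.ker_isPrime _⟩ : PrimeSpectrum R)
      obtain ⟨φ, hφ, hker⟩ := exists_chart_lift j z (Field.toIsField (S.residueField (j z)))
        (S.fromSpecResidueField (j z)) (fun p => Scheme.fromSpecResidueField_apply _ _)
      rw [finrank_homology_congr_ker hF (algebraMap R K) (Spec.preimage φ).hom z rfl hker 0,
        ← betti_eq (j z) j P hP hF α hα φ hφ 0 (0 - 1) (Set.subset_univ _) (by omega)]
      exact hbetti (j z))
  obtain ⟨V, k, hk, hsV, hkj⟩ := DPerf.exists_opens j hs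
  obtain ⟨r⟩ : Nonempty ((resD V.ι).obj E ≅ (resD k).obj ((resD j).obj E)) := by
    have key : ∀ (i : (V : Scheme.{u}) ⟶ S) [IsOpenImmersion i], i = k ≫ j →
        Nonempty ((resD i).obj E ≅ (resD k).obj ((resD j).obj E)) := fun i _ h => by
      subst h
      exact ⟨((resDComp j k).app E).symm⟩
    exact key _ hkj.symm
  haveI : PreservesFiniteBiproducts (resD k) := Functor.preservesFiniteBiproductsOfAdditive _
  haveI := preservesBinaryBiproducts_of_preservesBiproducts (resD k)
  refine ⟨V, hsV, (resD k).obj Q, c, DGen9.isPerfect_resD k hQ,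
    KFlat.Sch.torAmplitude_of_flatAmplitude (flatAmplitude_res k hamp), ⟨r ≪≫
      (resD k).mapIso (eα.symm ≪≫ e ≪≫ biprod.mapIso ((DerivedCategory.singleFunctor (Spec R).Modules 0).mapIso
        (eH 0 ≪≫ (Scheme.Modules.restrictFunctor j).mapIso e₀ ≪≫ M2.freeModRestrictIso j n)) (Iso.refl Q)) ≪≫
      (resD k).mapBiprod _ _ ≪≫
      biprod.mapIso (((Scheme.Modules.restrictFunctor k).mapDerivedCategorySingleFunctor 0).app _ ≪≫
        (DerivedCategory.singleFunctor (V : Scheme.{u}).Modules 0).mapIso (M2.freeModRestrictIso k n)) (Iso.refl _)⟩⟩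

end Groth.Agent.TwistBC9
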