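import Groth.Agent.Lib.TwistBC9.LocFree
import Groth.Agent.Lib.DMV.Derived
import Groth.Agent.Lib.RFPlus.Acyclic
import Groth.Agent.Lib.TwistBC9.SplitH0
import Groth.Agent.Lib.RelPCS8.FlatTerms
import Groth.Agent.Lib.ResDesc11.Basic
import Groth.Agent.Lib.TensorMod.Invertible
import Mathlib.Algebra.Category.ModuleCat.Sheaf.PullbackFree

/-!
# The degree zero cohomology of a derived direct image
-/

set_option autoImplicit false
set_option linter.style.haveILetI false
set_option linter.unusedSectionVars false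
set_option backward.isDefEq.respectTransparency false
set_option backward.isDefEq.respectTransparency.types false
set_option maxHeartbeats 800000

universe u

open CategoryTheory CategoryTheory.Limits AlgebraicGeometry Opposite

attribute [local instance] HasDerivedCategory.standard

namespace Groth.Agent.TwistBC9

variable {X S : Scheme.{u}}

/-- The degree zero cohomology of a derived direct image is the direct image. -/
theorem nonempty_H0_rpush (f : X ⟶ S) [DCoh.HasRpush f] (M : X.Modules) :
    Nonempty (DCoh.HD ((DCoh.Rpush f).obj ((DerivedCategory.singleFunctor X.Modules 0).obj M)) 0 ≅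
      (Scheme.Modules.pushforward f).obj M) := by
  let F := Scheme.Modules.pushforward f
  let R := injectiveResolution M
  let K := (HomologicalComplex.single X.Modules (ComplexShape.up ℤ) 0).obj M
  haveI : IsIso (DerivedCategory.Q.map R.ι') := inferInstance
  haveI : PreservesFiniteLimits F := inferInstance
  haveI hq : IsIso (HomologicalComplex.homologyMap ((F.mapHomologicalComplex (ComplexShape.up ℤ)).map R.ι') 0) :=
    (quasiIsoAt_iff_isIso_homologyMap _ 0).1 ((RFPlus.quasiIsoAt_map_ι'_zero_iff F R).2 inferInstance)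
  let a : (DCoh.Rpush f).obj ((DerivedCategory.singleFunctor X.Modules 0).obj M) ≅
      DerivedCategory.Q.obj ((F.mapHomologicalComplex (ComplexShape.up ℤ)).obj R.cochainComplex) :=
    (DCoh.Rpush f).mapIso ((DerivedCategory.singleFunctorIsoCompQ X.Modules 0).app M ≪≫
      asIso (DerivedCategory.Q.map R.ι')) ≪≫ (DMV.pushIso f R.cochainComplex).symm
  exact ⟨(DerivedCategory.homologyFunctor _ 0).mapIso a ≪≫ (DerivedCategory.homologyFunctorFactors _ 0).app _ ≪≫
    (asIso (HomologicalComplex.homologyMap ((F.mapHomologicalComplex (ComplexShape.up ℤ)).map R.ι') 0)).symm ≪≫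
    (HomologicalComplex.homologyFunctor _ _ 0).mapIso
      ((HomologicalComplex.singleMapHomologicalComplex F (ComplexShape.up ℤ) 0).app M) ≪≫
    HomologicalComplex.singleObjHomologySelfIso (ComplexShape.up ℤ) 0 (F.obj M)⟩

/-- If `O_S ⟶ f_* O_X` is bijective on sections, it is an isomorphism of modules. -/
theorem nonempty_push_structureModule (f : X ⟶ S) (h : ∀ V : S.Opens, Function.Bijective (f.app V)) :
    Nonempty ((Scheme.Modules.pushforward f).obj (Coh.structureModule X) ≅ Coh.structureModule S) := by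
  let η : Coh.structureModule S ⟶ (Scheme.Modules.pushforward f).obj (Coh.structureModule X) :=
    SheafOfModules.unitToPushforwardObjUnit f.toRingCatSheafHom
  haveI : IsIso η := Scheme.Modules.Hom.isIso_iff_isIso_app.2 fun V =>
    (ConcreteCategory.isIso_iff_bijective _).2 (h V)
  exact ⟨(asIso η).symm⟩

/-- Sections over a field are checked on the whole space. -/
theorem bijective_app_of_top {X : Scheme.{u}} {k : CommRingCat.{u}} (hk : IsField k) (f : X ⟶ Spec k)
    (h : Function.Bijective f.appTop) (V : (Spec k).Opens) : Function.Bijective (f.app V) := by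
  letI := hk.toField
  obtain ⟨hs⟩ : Subsingleton (Spec k) := inferInstanceAs (Subsingleton (PrimeSpectrum k))
  by_cases hV : (V : Set (Spec k)).Nonempty
  · obtain ⟨x, hx⟩ := hV
    obtain rfl : V = ⊤ := top_le_iff.1 fun y _ => hs x y ▸ hx
    exact h
  · obtain rfl : V = ⊥ := TopologicalSpace.Opens.ext (Set.not_nonempty_iff_eq_empty.1 hV)
    haveI : Subsingleton Γ(X, f ⁻¹ᵁ (⊥ : (Spec k).Opens)) := by
      rw [show f ⁻¹ᵁ (⊥ : (Spec k).Opens) = ⊥ from rfl]
      infer_instance
    exact ⟨fun a b _ => Subsingleton.elim a b, fun b => ⟨0, Subsingleton.elim _ _⟩⟩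

attribute [local instance] DBC9.hasRpush

/-- Perfection of the direct image of the structure sheaf and splitting off its degree zero part. -/
theorem exists_split_of_h0 (hN : ∀ {R : CommRingCat.{u}} [IsNoetherianRing R] {X' : Scheme.{u}} (f : X' ⟶ Spec R)
    [LocallyOfFiniteType f] [QuasiCompact f] (E : DCoh.D X') (_ : DCoh.IsPerfect E) (G : X'.Modules) (_ : Coh.IsCoh G)
    (_ : FlatMod.IsFlatOver f G) (_ : ClSub.IsProperOver f (CohB1.support G)),
    DCoh.IsPerfect ((DCoh.Rpush f).obj ((tenF G).obj E)))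
    (f : X ⟶ S) [IsProper f] [Flat f] [LocallyOfFinitePresentation f]
    (hf : ∀ V : S.Opens, IsIso (f.app V)) (h : ∀ s : S, IsIso (f.fiberToSpecResidueField s).appTop) (s : S) :
    ∃ V : S.Opens, s ∈ V ∧ ∃ (P : DCoh.D (V : Scheme.{u})) (b : ℤ), DCoh.IsPerfect P ∧
      DCoh.HasTorAmplitudeIn 1 b P ∧
        Nonempty ((DCoh.Rpush (f ∣_ V)).obj (DCoh.inD (f ⁻¹ᵁ V : Scheme.{u}) (Coh.structureModule (f ⁻¹ᵁ V : Scheme.{u}))) ≅
          DCoh.inD (V : Scheme.{u}) (Coh.structureModule (V : Scheme.{u})) ⊞ P) := by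
  let O := Coh.structureModule X
  let E := (DCoh.Rpush f).obj ((DerivedCategory.singleFunctor X.Modules 0).obj O)
  have hfl := ResDesc11.isFinLocFree_structureModule X
  have hfp : CohB1.IsFP O := M1.isFP_of_isFinLocFree hfl
  have hflat : FlatMod.IsFlatOver f O := RelPCS8.flat_iff_isFlatOver_structureModule.1 inferInstance
  have hE : DCoh.IsPerfect E := isPerfect_rpush_inD hN f O hfp hflat
    ⟨M1.isClosed_support (M1.isFP_isFT hfp), inferInstance⟩
  haveI : ∀ x : S, DCoh.HasLpull (S.fromSpecResidueField x) := fun x => KFlat.Sch.hasLpull _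
  have hlow : ∀ l, l < 0 → IsZero (DCoh.HD E l) := fun l hl => by
    haveI := DPush.isGE_rpush f ((DerivedCategory.singleFunctor X.Modules 0).obj O) 0 inferInstance
    exact DerivedCategory.isZero_of_isGE _ 0 l hl
  obtain ⟨a⟩ := nonempty_H0_rpush f O
  obtain ⟨a'⟩ := nonempty_push_structureModule f fun V => (ConcreteCategory.isIso_iff_bijective _).1 (hf V)
  let e₀ : DCoh.HD E 0 ≅ FlatMod.freeMod S 1 := a ≪≫ a' ≪≫ (M2.freeModOneIso S).symm
  have hbetti : ∀ x : S, PerfD.betti E x 0 ≤ 1 := fun x => by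
    let pt := S.fromSpecResidueField x
    let f' := pullback.snd f pt
    obtain ⟨l⟩ := DMon9.nonempty_lpull_iso_lP pt E
    obtain ⟨b⟩ := nonempty_bc_inD (IsPullback.of_hasPullback f pt) O (M1.isFP_isQCoh hfp) hflat
    obtain ⟨c⟩ := nonempty_H0_rpush f' ((Scheme.Modules.pullback (pullback.fst f pt)).obj O)
    obtain ⟨d⟩ := nonempty_push_structureModule f' fun V =>
      bijective_app_of_top (Field.toIsField (S.residueField x)) f' ((ConcreteCategory.isIso_iff_bijective _).1 (h x)) V
    let e : DCoh.HD ((DCoh.Lpull pt).obj E) 0 ≅ Coh.structureModule (Spec (S.residueField x)) :=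
      (DerivedCategory.homologyFunctor _ 0).mapIso (l ≪≫ b) ≪≫ c ≪≫
        (Scheme.Modules.pushforward f').mapIso (PicLoc.pullbackStructureIso (pullback.fst f pt)) ≪≫ d
    haveI : Nontrivial (Coh.Γtop (Spec (S.residueField x))) :=
      (Scheme.ΓSpecIso (S.residueField x)).commRingCatIsoToRingEquiv.toEquiv.nontrivial
    refine (((SheafOfModules.evaluation _ (op ⊤)).mapIso e).toLinearEquiv.finrank_eq.trans ?_).le
    exact Module.finrank_self _
  obtain ⟨V, hsV, P, b, hP, hamp, ⟨e⟩⟩ := exists_split_local hE hlow 1 e₀ hbetti s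
  obtain ⟨r⟩ := DBC9.nonempty_res_rpush f (f ∣_ V) V.ι (f ⁻¹ᵁ V).ι (isPullback_morphismRestrict f V)
  let o : (DPerf.resD (f ⁻¹ᵁ V).ι).obj ((DerivedCategory.singleFunctor X.Modules 0).obj O) ≅
      DCoh.inD (f ⁻¹ᵁ V : Scheme.{u}) (Coh.structureModule (f ⁻¹ᵁ V : Scheme.{u})) :=
    ((Scheme.Modules.restrictFunctor (f ⁻¹ᵁ V).ι).mapDerivedCategorySingleFunctor 0).app O ≪≫
      (DerivedCategory.singleFunctor _ 0).mapIso ((Scheme.Modules.restrictFunctorIsoPullback _).app O ≪≫
        PicLoc.pullbackStructureIso _)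
  exact ⟨V, hsV, P, b, hP, hamp, ⟨(DCoh.Rpush (f ∣_ V)).mapIso o.symm ≪≫ (r.app _).symm ≪≫ e ≪≫
    biprod.mapIso ((DerivedCategory.singleFunctor _ 0).mapIso (M2.freeModOneIso _)) (Iso.refl P)⟩⟩

end Groth.Agent.TwistBC9
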