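import Groth.Agent.Lib.DBC9.Mate

/-!
# Base change maps and full subcategories
-/

set_option autoImplicit false
set_option linter.unusedSectionVars false
set_option backward.isDefEq.respectTransparency false
set_option backward.isDefEq.respectTransparency.types false
set_option maxHeartbeats 800000

open CategoryTheory

namespace Groth.Agent.TwistBC9

open DBC9

variable {A A' B B' a a' b b' : Type*} [Category* A] [Category* A'] [Category* B] [Category* B'] [Category* a]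
  [Category* a'] [Category* b] [Category* b']
  {G : A ⥤ A'} {G' : B ⥤ B'} {L : A ⥤ B} {R : B ⥤ A} {L' : A' ⥤ B'} {R' : B' ⥤ A'}
  (adj : L ⊣ R) (adj' : L' ⊣ R') (σ : G ⋙ L' ≅ L ⋙ G')
  {g : a ⥤ a'} {g' : b ⥤ b'} {l : a ⥤ b} {r : b ⥤ a} {l' : a' ⥤ b'} {r' : b' ⥤ a'}
  {ιA : a ⥤ A} {ιA' : a' ⥤ A'} {ιB : b ⥤ B} {ιB' : b' ⥤ B'}
  (hA : ιA.FullyFaithful) (hA' : ιA'.FullyFaithful) (hB : ιB.FullyFaithful) (hB' : ιB'.FullyFaithful)
  (cg : ιA ⋙ G ≅ g ⋙ ιA') (cg' : ιB ⋙ G' ≅ g' ⋙ ιB') (cl : ιA ⋙ L ≅ l ⋙ ιB) (cl' : ιA' ⋙ L' ≅ l' ⋙ ιB')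
  (cr : ιB ⋙ R ≅ r ⋙ ιA) (cr' : ιB' ⋙ R' ≅ r' ⋙ ιA')

/-- The base change map on a full subcategory. -/
theorem bc_restrict_eq (M : b) :
    (bc adj adj' σ.hom).app (ιB.obj M) = G.map (cr.hom.app M) ≫ cg.hom.app (r.obj M) ≫
      ιA'.map ((bc (adj.restrictFullyFaithful hA hB cl cr) (adj'.restrictFullyFaithful hA' hB' cl' cr')
        (restrictIso σ hB' cg cg' cl cl').hom).app M) ≫
      cr'.inv.app (g'.obj M) ≫ R'.map (cg'.inv.app M) := by
  let am := adj.restrictFullyFaithful hA hB cl cr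
  let am' := adj'.restrictFullyFaithful hA' hB' cl' cr'
  let bm := (bc am am' (restrictIso σ hB' cg cg' cl cl').hom).app M
  refine bc_app_eq _ _ _ _ ?_
  have e1 := adj.map_restrictFullyFaithful_counit_app hA hB cl cr M
  have e2 := adj'.map_restrictFullyFaithful_counit_app hA' hB' cl' cr' (g'.obj M)
  have e3 := congrArg (fun t => ιB'.map t) (map_bc_counit am am' (restrictIso σ hB' cg cg' cl cl').hom M)
  have n1 := cl'.hom.naturality bm
  have n2 := adj'.counit.naturality (cg'.inv.app M)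
  have n3 := cg'.hom.naturality (am.counit.app M)
  have n4 := σ.hom.naturality (cr.hom.app M)
  have hσ : ∀ X : a, ιB'.map ((restrictIso σ hB' cg cg' cl cl').hom.app X) =
      cl'.inv.app (g.obj X) ≫ L'.map (cg.inv.app X) ≫ σ.hom.app (ιA.obj X) ≫ G'.map (cl.hom.app X) ≫
        cg'.hom.app (l.obj X) := fun X => by
    simp [restrictIso]
  simp only [Functor.map_comp] at e3
  dsimp [am, am', bm] at e1 e2 e3 n1 n2 n3 n4 ⊢
  simp only [hσ, Category.assoc] at e3
  rw [e2] at e3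
  rw [← n3, ← G'.map_comp_assoc, e1] at e3
  simp only [Functor.map_comp, Category.assoc, Functor.id_obj]
  rw [n2, ← cancel_mono (cg'.hom.app M)]
  simp only [Category.assoc, Iso.inv_hom_id_app, Category.comp_id, Functor.comp_obj]
  have t1 : ∀ {Z} (k : ιB'.obj (l'.obj (r'.obj (g'.obj M))) ⟶ Z), L'.map (ιA'.map _) ≫ cl'.hom.app _ ≫ k = _ :=
    fun k => (reassoc_of% n1) k
  rw [← cl'.hom_inv_id_app_assoc (r'.obj (g'.obj M)) (L'.map (cr'.inv.app (g'.obj M)) ≫ _)]
  simp only [Functor.comp_obj, Category.assoc]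
  rw [t1, e3]
  simp only [Iso.hom_inv_id_app_assoc, ← L'.map_comp_assoc, Category.assoc, Iso.hom_inv_id_app,
    Category.comp_id, G'.map_comp, Functor.comp_obj]
  simp only [Category.id_comp, Category.assoc, reassoc_of% n4, Functor.comp_obj]
  rw [← G'.map_comp_assoc (L.map _), ← L.map_comp, Iso.hom_inv_id_app]
  erw [CategoryTheory.Functor.map_id, CategoryTheory.Functor.map_id, Category.id_comp]

/-- A twisted base change map can be tested after restricting to full subcategories. -/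
theorem isIso_bc_comp_of_restrict (M : b) {N : b'} (ν : g'.obj M ⟶ N) {Z : B'} (e : ιB'.obj N ≅ Z)
    (h : IsIso ((bc (adj.restrictFullyFaithful hA hB cl cr) (adj'.restrictFullyFaithful hA' hB' cl' cr')
      (restrictIso σ hB' cg cg' cl cl').hom).app M ≫ r'.map ν)) :
    IsIso ((bc adj adj' σ.hom).app (ιB.obj M) ≫ R'.map (cg'.hom.app M ≫ ιB'.map ν ≫ e.hom)) := by
  rw [bc_restrict_eq adj adj' σ hA hA' hB hB' cg cg' cl cl' cr cr' M]
  set bm := (bc (adj.restrictFullyFaithful hA hB cl cr) (adj'.restrictFullyFaithful hA' hB' cl' cr')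
    (restrictIso σ hB' cg cg' cl cl').hom).app M
  have hn := cr'.inv.naturality ν
  dsimp at hn
  haveI := h
  haveI : IsIso (ιA'.map bm ≫ ιA'.map (r'.map ν)) := by
    rw [← Functor.map_comp]
    infer_instance
  have : (G.map (cr.hom.app M) ≫ cg.hom.app (r.obj M) ≫ ιA'.map bm ≫
      cr'.inv.app (g'.obj M) ≫ R'.map (cg'.inv.app M)) ≫ R'.map (cg'.hom.app M ≫ ιB'.map ν ≫ e.hom) =
      G.map (cr.hom.app M) ≫ cg.hom.app (r.obj M) ≫ (ιA'.map bm ≫ ιA'.map (r'.map ν)) ≫
        cr'.inv.app N ≫ R'.map e.hom := by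
    simp only [Category.assoc, Functor.map_comp]
    rw [← R'.map_comp_assoc (cg'.inv.app M), Iso.inv_hom_id_app]
    erw [R'.map_id, Category.id_comp]
    rw [reassoc_of% hn]
  rw [this]
  infer_instance

end Groth.Agent.TwistBC9
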