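import Groth.Agent.Lib.TwistBC9.Ring
import Groth.Agent.Lib.TwistBC9.Trunc
import Groth.Agent.Lib.TwistBC9.Restrict
import Groth.Agent.Lib.TwistBC9.Hd
import Groth.Agent.Lib.DBC9.Affine
import Groth.Agent.Lib.DBC9.Push

/-!
# Twisted base change for affine squares
-/

set_option autoImplicit false
set_option linter.unusedSectionVars false
set_option linter.style.haveILetI false
set_option backward.isDefEq.respectTransparency false
set_option backward.isDefEq.respectTransparency.types false
set_option maxHeartbeats 1200000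

universe u

open CategoryTheory CategoryTheory.Limits AlgebraicGeometry

attribute [local instance] HasDerivedCategory.standard

namespace Groth.Agent.TwistBC9

open DMon9 DBC9

attribute [local instance] DBC9.hasRpush

/-- Base change of a module which is flat over the base, in one degree. -/
theorem isIso_twist_spec {A B A' B' : CommRingCat.{u}} (φ : A ⟶ B) (γ : A ⟶ A') (φ' : A' ⟶ B') (γ' : B ⟶ B')
    (H : IsPushout γ φ φ' γ')
    {L : DCoh.D (Spec A) ⥤ DCoh.D (Spec B)} (adj : L ⊣ DCoh.Rpush (Spec.map φ))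
    {L' : DCoh.D (Spec A') ⥤ DCoh.D (Spec B')} (adj' : L' ⊣ DCoh.Rpush (Spec.map φ'))
    (σ : lP (Spec.map γ) ⋙ L' ≅ L ⋙ lP (Spec.map γ'))
    (a : ℤ) (M : ModuleCat.{u} B) (hM : Module.Flat A ((ModuleCat.restrictScalars φ.hom).obj M))
    {K : DCoh.D (Spec B)} (eK : (DerivedCategory.singleFunctor (Spec B).Modules a).obj ((tilde.functor B).obj M) ≅ K)
    (N' : (Spec B').Modules)
    (θ : (lP (Spec.map γ')).obj K ⟶ (DerivedCategory.singleFunctor (Spec B').Modules a).obj N')
    (hθ : IsIso ((DerivedCategory.homologyFunctor (Spec B').Modules a).map θ)) :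
    IsIso ((bc adj adj' σ.hom).app K ≫ (DCoh.Rpush (Spec.map φ')).map θ) := by
  haveI := DQC.hasLBaseChange φ.hom
  haveI := DQC.hasLBaseChange φ'.hom
  haveI := DQC.hasLBaseChange γ.hom
  haveI := DQC.hasLBaseChange γ'.hom
  haveI : PreservesFiniteLimits (tilde.functor B) := M1.tilde_preservesFiniteLimits
  haveI : PreservesFiniteLimits (tilde.functor B') := M1.tilde_preservesFiniteLimits
  let MD : Dual.D B := (TT B a).obj M
  let M' := (ModuleCat.extendScalars γ'.hom).obj M
  let e₀ : (DPerf.tildeDD B).obj MD ≅ K :=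
    ((tilde.functor B).mapDerivedCategorySingleFunctor a).app M ≪≫ eK
  let cg := lPTildeIso γ
  let cg' := lPTildeIso γ'
  let s' : (DPerf.tildeDD B').obj ((TT B' a).obj M') ≅
      (DerivedCategory.singleFunctor (Spec B').Modules a).obj ((tilde.functor B').obj M') :=
    ((tilde.functor B').mapDerivedCategorySingleFunctor a).app M'
  let p := cg'.hom.app MD ≫ (DPerf.tildeDD B').map ((νT γ'.hom a).app M) ≫ s'.hom
  let q := (lP (Spec.map γ')).map e₀.hom ≫ θ
  let H0 := DerivedCategory.homologyFunctor (Spec B').Modules a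
  obtain ⟨hle, hν⟩ := isLE_isIso_top_νT γ'.hom a M
  haveI hX : DerivedCategory.IsLE ((DPerf.tildeDD B ⋙ lP (Spec.map γ')).obj MD) a := by
    haveI : DerivedCategory.TStructure.t.IsLE ((DRing.LBaseChange γ'.hom ⋙ DPerf.tildeDD B').obj MD) a := by
      change ((DPerf.tildeDD B').obj ((DRing.LBaseChange γ'.hom).obj MD)).IsLE a
      rw [DerivedCategory.isLE_iff]
      intro i hi
      exact ((tilde.functor B').map_isZero ((DerivedCategory.isLE_iff _ a).1 hle i hi)).of_iso
        ((hdMapIso (tilde.functor B') i).app _)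
    exact DerivedCategory.TStructure.t.isLE_of_iso (cg'.app MD).symm a
  have hp : IsIso (H0.map p) := by
    haveI := hν
    haveI : IsIso (H0.map ((DPerf.tildeDD B').map ((νT γ'.hom a).app M))) :=
      (NatIso.isIso_map_iff (hdMapIso (tilde.functor B') a) ((νT γ'.hom a).app M)).2
        (inferInstanceAs (IsIso ((tilde.functor B').map ((DerivedCategory.homologyFunctor _ a).map
          ((νT γ'.hom a).app M)))))
    simp only [p, Functor.map_comp]
    infer_instance
  have hq : IsIso (H0.map q) := by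
    haveI := hθ
    simp only [q, Functor.map_comp]
    infer_instance
  obtain ⟨d, hd, hpq⟩ := exists_factor_iso a p hp q hq
  let cl := Functor.isoWhiskerLeft (DPerf.tildeDD A) (adj.leftAdjointUniq (adjLP (Spec.map φ))) ≪≫ lPTildeIso φ
  let cl' := Functor.isoWhiskerLeft (DPerf.tildeDD A') (adj'.leftAdjointUniq (adjLP (Spec.map φ'))) ≪≫ lPTildeIso φ'
  obtain ⟨cr⟩ := DPush9.nonempty_tildeD_rpush_iso φ
  obtain ⟨cr'⟩ := DPush9.nonempty_tildeD_rpush_iso φ'
  let e : (DPerf.tildeDD B').obj ((TT B' a).obj M') ≅ (DerivedCategory.singleFunctor (Spec B').Modules a).obj N' :=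
    s' ≪≫ (DerivedCategory.singleFunctor (Spec B').Modules a).mapIso (asIso d)
  have key := isIso_bc_comp_of_restrict adj adj' σ (tildeFF A) (tildeFF A') (tildeFF B) (tildeFF B')
    cg cg' cl cl' cr cr' MD ((νT γ'.hom a).app M) e
    (isIso_bc_flat φ.hom γ.hom φ'.hom γ'.hom _ _ _ a M
      (haveI := hM; isIso_νT_of_flat γ.hom a _) (exists_pushIsoMod φ γ φ' γ' H M))
  have hqe : cg'.hom.app MD ≫ (DPerf.tildeDD B').map ((νT γ'.hom a).app M) ≫ e.hom = q := by
    rw [hpq]
    simp [p, e]
  rw [hqe] at key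
  have hn := (bc adj adj' σ.hom).naturality e₀.hom
  simp only [Functor.comp_map] at hn
  haveI : IsIso ((lP (Spec.map γ)).map ((DCoh.Rpush (Spec.map φ)).map e₀.hom) ≫
      (bc adj adj' σ.hom).app K ≫ (DCoh.Rpush (Spec.map φ')).map θ) := by
    rw [reassoc_of% hn, ← Functor.map_comp]
    exact key
  exact IsIso.of_isIso_comp_left ((lP (Spec.map γ)).map ((DCoh.Rpush (Spec.map φ)).map e₀.hom)) _

end Groth.Agent.TwistBC9
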