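import Mathlib.LinearAlgebra.Matrix.Nonsingular
import Mathlib.LinearAlgebra.Matrix.Adjugate
import Mathlib.LinearAlgebra.Basis.VectorSpace
import Mathlib.LinearAlgebra.FiniteDimensional.Basic
import Mathlib.LinearAlgebra.Dimension.DivisionRing
import Mathlib.RingTheory.LocalRing.Module

open TensorProduct IsLocalRing

set_option autoImplicit false
set_option linter.style.haveILetI false
set_option linter.unusedSectionVars false

namespace Groth.Agent.TwistBC9

universe u

variable {A : Type u} [CommRing A]

theorem eq_zero_of_comp_injective {N : Type*} [AddCommGroup N] [Module A N] [Module.Free A N] {q : ℕ}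
    (d : (Fin q → A) →ₗ[A] N) (e : (Fin q → A) →ₗ[A] (Fin q → A)) (he : Function.Injective e)
    (h : d ∘ₗ e = 0) : d = 0 := by
  classical
  let M := LinearMap.toMatrix' e
  have hdet : M.det ∈ nonZeroDivisors A := by
    rw [← Matrix.nonsingular_iff_det_mem_nonZeroDivisors]
    refine Matrix.Nonsingular.of_linearIndependent_col ?_
    rw [← Matrix.mulVec_injective_iff]
    intro x y hxy
    refine he ?_
    rw [← Matrix.toLin'_toMatrix' e]
    simpa only [Matrix.toLin'_apply] using hxy
  have h1 : e ∘ₗ Matrix.toLin' M.adjugate = M.det • LinearMap.id := by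
    rw [← Matrix.toLin'_toMatrix' e, ← Matrix.toLin'_mul, Matrix.mul_adjugate, map_smul, Matrix.toLin'_one]
  refine LinearMap.ext fun x => ?_
  have h2 : M.det • d x = 0 := by
    have := congrArg (fun t => d (t x)) h1
    simp only [LinearMap.comp_apply, LinearMap.smul_apply, LinearMap.id_apply, map_smul] at this
    rw [← this, ← LinearMap.comp_apply, h, LinearMap.zero_apply]
  apply (Module.Free.chooseBasis A N).repr.injective
  refine Finsupp.ext fun i => ?_
  have h3 := congrArg (fun t => (Module.Free.chooseBasis A N).repr t i) h2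
  simp only [map_smul, map_zero, Finsupp.coe_zero, Pi.zero_apply, Finsupp.smul_apply, smul_eq_mul] at h3
  simpa using (mem_nonZeroDivisors_iff.1 hdet).1 _ h3

variable {C N : Type u} [AddCommGroup C] [Module A C] [Module.Finite A C] [AddCommGroup N] [Module A N]

/-- Lifts of bases of a residual kernel and of a complement. -/
theorem exists_split_data (k : Type u) [Field k] [Algebra A k] (hk : Function.Surjective (algebraMap A k))
    (d : C →ₗ[A] N) :
    ∃ (ρ : ℕ) (g : (Fin (Module.finrank k (LinearMap.ker (d.baseChange k))) → A) →ₗ[A] C)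
      (u : (Fin ρ → A) →ₗ[A] C), (∀ a, (1 : k) ⊗ₜ[A] d (g a) = 0) ∧
      (∀ z : k ⊗[A] C, ∃ a a', (1 : k) ⊗ₜ[A] (g a + u a') = z) ∧ Function.Injective ((d ∘ₗ u).lTensor k) := by
  classical
  let V := LinearMap.ker (d.baseChange k)
  haveI : Module.Free k V := Module.Free.of_divisionRing k V
  obtain ⟨W, hW⟩ := Submodule.exists_isCompl V
  haveI : Module.Free k W := Module.Free.of_divisionRing k W
  let bV := Module.finBasis k V
  let bW := Module.finBasis k W
  have hs : Function.Surjective (TensorProduct.mk A k C 1) := TensorProduct.mk_surjective A C k hk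
  choose gv hgv using fun i => hs (bV i : k ⊗[A] C)
  choose uv huv using fun i => hs (bW i : k ⊗[A] C)
  let g := Fintype.linearCombination A gv
  let u := Fintype.linearCombination A uv
  have hg : ∀ a, (1 : k) ⊗ₜ[A] g a = ((∑ i, algebraMap A k (a i) • bV i : V) : k ⊗[A] C) := fun a => by
    simp only [Submodule.coe_sum, Submodule.coe_smul_of_tower, g, Fintype.linearCombination_apply,
      TensorProduct.tmul_sum, TensorProduct.tmul_smul]
    refine Finset.sum_congr rfl fun i _ => ?_
    rw [algebraMap_smul, ← hgv i, TensorProduct.mk_apply]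
  have hu : ∀ a, (1 : k) ⊗ₜ[A] u a = ((∑ i, algebraMap A k (a i) • bW i : W) : k ⊗[A] C) := fun a => by
    simp only [Submodule.coe_sum, Submodule.coe_smul_of_tower, u, Fintype.linearCombination_apply,
      TensorProduct.tmul_sum, TensorProduct.tmul_smul]
    refine Finset.sum_congr rfl fun i _ => ?_
    rw [algebraMap_smul, ← huv i, TensorProduct.mk_apply]
  refine ⟨_, g, u, fun a => ?_, fun z => ?_, ?_⟩
  · have : (1 : k) ⊗ₜ[A] g a ∈ V := by rw [hg]; exact Submodule.coe_mem _
    simpa [V] using this
  · obtain ⟨v, hv, w, hw, rfl⟩ := Submodule.mem_sup.1 (hW.sup_eq_top.symm ▸ Submodule.mem_top : z ∈ V ⊔ W)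
    choose a ha using fun i => hk (bV.repr ⟨v, hv⟩ i)
    choose a' ha' using fun i => hk (bW.repr ⟨w, hw⟩ i)
    refine ⟨a, a', ?_⟩
    rw [TensorProduct.tmul_add, hg, hu]
    simp only [ha, ha', Module.Basis.sum_repr]
  · rw [injective_iff_map_eq_zero]
    intro z hz
    obtain ⟨a, rfl⟩ := TensorProduct.mk_surjective A _ k hk z
    have h1 : (1 : k) ⊗ₜ[A] u a ∈ V := by simpa [V] using hz
    have h1' : (1 : k) ⊗ₜ[A] u a ∈ W := (hu a).symm ▸ Submodule.coe_mem _
    have h2 : (1 : k) ⊗ₜ[A] u a = 0 := (Submodule.mem_bot k).1 (hW.inf_eq_bot ▸ Submodule.mem_inf.2 ⟨h1, h1'⟩)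
    have h4 := (Fintype.linearIndependent_iff (R := k) (v := ⇑bW)).1 bW.linearIndependent (fun i => algebraMap A k (a i))
      (Submodule.coe_eq_zero.1 ((hu a).symm.trans h2))
    apply (TensorProduct.piScalarRight A A k (Fin _)).injective
    refine funext fun i => ?_
    rw [map_zero, Pi.zero_apply, TensorProduct.mk_apply, TensorProduct.piScalarRight_apply,
      TensorProduct.piScalarRightHom_tmul]
    simpa [Algebra.smul_def] using h4 i

variable [IsLocalRing A] [Module.Finite A N] [Module.Free A N]

/-- A map of free modules whose free kernel has the rank of the residual kernel has free cokernel. -/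
theorem coker_free_of_ker (d : C →ₗ[A] N) (r : ℕ) (b : Module.Basis (Fin r) A (LinearMap.ker d))
    (hr : Module.finrank (ResidueField A) (LinearMap.ker (d.baseChange (ResidueField A))) ≤ r) :
    Module.Free A (N ⧸ LinearMap.range d) := by
  classical
  obtain ⟨ρ, g, u, hgV, hspan, hdu⟩ := exists_split_data (ResidueField A) Ideal.Quotient.mk_surjective d
  obtain ⟨π, hπ⟩ := (IsLocalRing.split_injective_iff_lTensor_residueField_injective (d ∘ₗ u)).2 hdu
  let g' := g - u ∘ₗ π ∘ₗ d ∘ₗ g
  have hπd : ∀ x, π (d (u x)) = x := fun x => LinearMap.congr_fun hπ x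
  have hπg : ∀ x, π (d (g' x)) = 0 := fun x => by
    simp only [g', LinearMap.sub_apply, LinearMap.comp_apply, map_sub, hπd, sub_self]
  -- `g'` and `u` generate
  have hsur : LinearMap.range (g'.coprod u) = ⊤ := by
    rw [← IsLocalRing.map_tensorProduct_mk_eq_top, eq_top_iff]
    rintro z -
    obtain ⟨a, a', rfl⟩ := hspan z
    refine ⟨g'.coprod u (a, a'), LinearMap.mem_range_self _ _, ?_⟩
    have h1 : (1 : ResidueField A) ⊗ₜ[A] u (π (d (g a))) = 0 := by
      have := congrArg ((u ∘ₗ π).lTensor (ResidueField A)) (hgV a)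
      rwa [map_zero, LinearMap.lTensor_tmul] at this
    simp [g', TensorProduct.tmul_add, TensorProduct.tmul_sub, h1]
  have hsur' := LinearMap.range_eq_top.1 hsur
  -- the kernel lies in the image of `g'`
  have hker : ∀ j, ∃ a, g' a = (b j : C) := fun j => by
    obtain ⟨⟨a, a'⟩, ha⟩ := hsur' (b j : C)
    rw [LinearMap.coprod_apply] at ha
    have h1 : π (d (g' a + u a')) = 0 := by
      rw [ha, LinearMap.mem_ker.1 (b j).2, map_zero]
    rw [map_add, map_add, hπg, hπd, zero_add] at h1
    rw [h1, map_zero, add_zero] at ha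
    exact ⟨a, ha⟩
  choose hv hhv using hker
  let h := Fintype.linearCombination A hv
  have hgh : ∀ c, g' (h c) = ((b.equivFun.symm c : LinearMap.ker d) : C) := fun c => by
    simp [h, Fintype.linearCombination_apply, Module.Basis.equivFun_symm_apply, map_sum, map_smul, hhv]
  have hh : Function.Injective h := fun c c' e =>
    b.equivFun.symm.injective (Subtype.ext (by rw [← hgh, ← hgh, e]))
  have hqr : Module.finrank (ResidueField A) (LinearMap.ker (d.baseChange (ResidueField A))) = r :=
    le_antisymm hr (le_of_fin_injective A h hh)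
  have hzero : d ∘ₗ g' = 0 := by
    let ε := LinearEquiv.funCongrLeft A A (finCongr hqr)
    refine eq_zero_of_comp_injective _ (h ∘ₗ ε.symm.toLinearMap) (hh.comp ε.symm.injective) ?_
    refine LinearMap.ext fun c => ?_
    simp only [LinearMap.comp_apply, LinearMap.zero_apply]
    rw [hgh]
    exact LinearMap.mem_ker.1 (Submodule.coe_mem _)
  have hrange : LinearMap.range d = LinearMap.range (d ∘ₗ u) := by
    refine le_antisymm ?_ (LinearMap.range_comp_le_range u d)
    rintro _ ⟨x, rfl⟩
    obtain ⟨⟨a, a'⟩, rfl⟩ := hsur' x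
    exact ⟨a', by simp [show d (g' a) = 0 from LinearMap.congr_fun hzero a]⟩
  rw [hrange]
  exact Module.free_of_lTensor_residueField_injective (d ∘ₗ u) (LinearMap.range (d ∘ₗ u)).mkQ
    (Submodule.mkQ_surjective _) (d ∘ₗ u).exact_map_mkQ_range hdu

end Groth.Agent.TwistBC9
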