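import Groth.Agent.Lib.DBC9.Good

/-!
# Localizing twisted base change maps
-/

set_option autoImplicit false
set_option linter.unusedSectionVars false
set_option linter.style.haveILetI false
set_option backward.isDefEq.respectTransparency false
set_option backward.isDefEq.respectTransparency.types false
set_option maxHeartbeats 1000000

universe u

open CategoryTheory CategoryTheory.Limits AlgebraicGeometry

attribute [local instance] HasDerivedCategory.standard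

namespace Groth.Agent.TwistBC9

open DMon9 DBC9

attribute [local instance] DBC9.hasRpush

variable {X Y X' Y' : Scheme.{u}}

/-- A twisted base change map over an open of the new base. -/
theorem isIso_lP_map_twist {f : X ⟶ Y} {f' : X' ⟶ Y'} {g : Y' ⟶ Y} {g' : X' ⟶ X} {V W : Scheme.{u}} {j : V ⟶ Y'}
    [IsOpenImmersion j] {i : W ⟶ X'} [IsOpenImmersion i] {fV : W ⟶ V} (H : IsPullback fV i j f')
    {L : DCoh.D Y ⥤ DCoh.D X} {L' : DCoh.D Y' ⥤ DCoh.D X'} (adj : L ⊣ DCoh.Rpush f) (adj' : L' ⊣ DCoh.Rpush f')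
    (σ : lP g ⋙ L' ≅ L ⋙ lP g') {K : DCoh.D X} {N : DCoh.D X'} (θ : (lP g').obj K ⟶ N)
    (h : ∀ σV : lP (j ≫ g) ⋙ lP fV ≅ L ⋙ lP (i ≫ g'),
      IsIso ((bc adj (adjLP fV) σV.hom).app K ≫
        (DCoh.Rpush fV).map ((lPComp i g' rfl).inv.app K ≫ (lP i).map θ))) :
    IsIso ((lP j).map ((bc adj adj' σ.hom).app K ≫ (DCoh.Rpush f').map θ)) := by
  let τ : lP j ⋙ lP fV ≅ L' ⋙ lP i := σOf H.w adj' (adjLP fV)
  let u : lP (j ≫ g) ≅ lP g ⋙ lP j := (lPComp j g rfl).symm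
  let u' : lP (i ≫ g') ≅ lP g' ⋙ lP i := (lPComp i g' rfl).symm
  haveI := isIso_hPaste σ τ
  let σV : lP (j ≫ g) ⋙ lP fV ≅ L ⋙ lP (i ≫ g') :=
    Functor.isoWhiskerRight u (lP fV) ≪≫ asIso (hPaste σ.hom τ.hom) ≪≫ Functor.isoWhiskerLeft L u'.symm
  have h1 : IsIso ((bc adj (adjLP fV) σV.hom).app K ≫
      (DCoh.Rpush fV).map (u'.hom.app K ≫ (lP i).map θ)) := h σV
  have h2 : (bc adj (adjLP fV) σV.hom).app K =
      u.hom.app ((DCoh.Rpush f).obj K) ≫ (bc adj (adjLP fV) (hPaste σ.hom τ.hom)).app K ≫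
        (DCoh.Rpush fV).map (u'.inv.app K) := bc_change adj (adjLP fV) (hPaste σ.hom τ.hom) u u' K
  rw [h2, bc_hPaste adj adj' σ.hom (adjLP fV) τ.hom, Category.assoc, Category.assoc, ← Functor.map_comp,
    Iso.inv_hom_id_app_assoc, Category.assoc] at h1
  haveI := h1
  haveI := IsIso.of_isIso_comp_left (u.hom.app ((DCoh.Rpush f).obj K))
    ((lP j).map ((bc adj adj' σ.hom).app K) ≫ (bc adj' (adjLP fV) τ.hom).app ((lP g').obj K) ≫
      (DCoh.Rpush fV).map ((lP i).map θ))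
  have hn := (bc adj' (adjLP fV) τ.hom).naturality θ
  simp only [Functor.comp_map] at hn
  haveI := isIso_bc_open f' fV j i H adj' (adjLP fV) τ N
  haveI : IsIso ((lP j).map ((bc adj adj' σ.hom).app K ≫ (DCoh.Rpush f').map θ) ≫
      (bc adj' (adjLP fV) τ.hom).app N) := by
    rw [Functor.map_comp, Category.assoc, hn]
    infer_instance
  exact IsIso.of_isIso_comp_right _ ((bc adj' (adjLP fV) τ.hom).app N)

/-- A twisted base change map with the base factored through an open immersion. -/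
theorem isIso_twist_base {W XW : Scheme.{u}} {f : X ⟶ Y} {f' : X' ⟶ Y'} {fW : XW ⟶ W} {j : W ⟶ Y} [IsOpenImmersion j]
    {i : XW ⟶ X} [IsOpenImmersion i] (H : IsPullback fW i j f) {g₁ : Y' ⟶ W} {g₁' : X' ⟶ XW} {g : Y' ⟶ Y}
    {g' : X' ⟶ X} (hg : g₁ ≫ j = g) (hg' : g₁' ≫ i = g')
    {L : DCoh.D Y ⥤ DCoh.D X} {L' : DCoh.D Y' ⥤ DCoh.D X'} (adj : L ⊣ DCoh.Rpush f) (adj' : L' ⊣ DCoh.Rpush f')
    (σ : lP g ⋙ L' ≅ L ⋙ lP g') {K : DCoh.D X} {N : DCoh.D X'} (θ : (lP g').obj K ⟶ N)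
    (h : ∀ σ₁ : lP g₁ ⋙ L' ≅ lP fW ⋙ lP g₁',
      IsIso ((bc (adjLP fW) adj' σ₁.hom).app ((lP i).obj K) ≫
        (DCoh.Rpush f').map ((lPComp g₁' i hg').hom.app K ≫ θ))) :
    IsIso ((bc adj adj' σ.hom).app K ≫ (DCoh.Rpush f').map θ) := by
  haveI := isIso_counit_openImmersion j
  let σj : lP j ⋙ lP fW ≅ L ⋙ lP i := σOf H.w adj (adjLP fW)
  let u : lP j ⋙ lP g₁ ≅ lP g := lPComp g₁ j hg
  let u' : lP i ⋙ lP g₁' ≅ lP g' := lPComp g₁' i hg'
  let σ' : (lP j ⋙ lP g₁) ⋙ L' ≅ L ⋙ lP i ⋙ lP g₁' :=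
    Functor.isoWhiskerRight u L' ≪≫ σ ≪≫ Functor.isoWhiskerLeft L u'.symm
  let κ : lP j ⋙ (lP g₁ ⋙ L') ≅ lP j ⋙ (lP fW ⋙ lP g₁') :=
    (Functor.associator _ _ _).symm ≪≫ σ' ≪≫ (Functor.associator _ _ _).symm ≪≫
      Functor.isoWhiskerRight σj.symm _ ≪≫ Functor.associator _ _ _
  let σ₁ := descIso (adjLP j) κ
  have hσ : σ'.hom = hPaste σj.hom σ₁.hom := by
    ext T
    rw [hPaste_app, descIso_app]
    simp only [κ, Iso.trans_hom, NatTrans.comp_app, Iso.symm_hom, Functor.associator_hom_app,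
      Functor.associator_inv_app, Functor.isoWhiskerRight_hom, Functor.whiskerRight_app, Category.comp_id,
      Category.id_comp, Category.assoc]
    rw [← Functor.map_comp]
    erw [Iso.inv_hom_id_app]
    rw [CategoryTheory.Functor.map_id]
    exact (Category.comp_id _).symm
  have h1 : IsIso ((bc adj adj' σ'.hom).app K ≫ (DCoh.Rpush f').map (u'.hom.app K ≫ θ)) := by
    rw [hσ, bc_hPaste adj (adjLP fW) σj.hom adj' σ₁.hom, Category.assoc]
    haveI := isIso_bc_open f fW j i H adj (adjLP fW) σj K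
    haveI := h σ₁
    exact @IsIso.comp_isIso _ _ _ _ _ _ _ inferInstance (h σ₁)
  have h2 : (bc adj adj' σ'.hom).app K = u.hom.app ((DCoh.Rpush f).obj K) ≫ (bc adj adj' σ.hom).app K ≫
      (DCoh.Rpush f').map (u'.inv.app K) := bc_change adj adj' σ.hom u u' K
  rw [h2, Category.assoc, Category.assoc, ← Functor.map_comp, Iso.inv_hom_id_app_assoc] at h1
  haveI := h1
  exact IsIso.of_isIso_comp_left (u.hom.app ((DCoh.Rpush f).obj K)) _

/-- A twisted base change map for objects pushed from an open. -/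
theorem isIso_twist_push {U U' : Scheme.{u}} {f : X ⟶ Y} {f' : X' ⟶ Y'} {g : Y' ⟶ Y} {g' : X' ⟶ X} {j : U ⟶ X}
    {j' : U' ⟶ X'} {g'' : U' ⟶ U} (w : j' ≫ g' = g'' ≫ j)
    {L : DCoh.D Y ⥤ DCoh.D X} {L' : DCoh.D Y' ⥤ DCoh.D X'} (adj : L ⊣ DCoh.Rpush f) (adj' : L' ⊣ DCoh.Rpush f')
    (σ : lP g ⋙ L' ≅ L ⋙ lP g') {K : DCoh.D X} {N : DCoh.D X'} (θ : (lP g').obj K ⟶ N)
    [IsIso ((adjLP j).unit.app K)] [IsIso ((adjLP j').unit.app N)]
    (h : ∀ {L₂ : DCoh.D Y ⥤ DCoh.D U} {L₂' : DCoh.D Y' ⥤ DCoh.D U'} (a : L₂ ⊣ DCoh.Rpush (j ≫ f))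
      (a' : L₂' ⊣ DCoh.Rpush (j' ≫ f')) (σp : lP g ⋙ L₂' ≅ L₂ ⋙ lP g''),
      IsIso ((bc a a' σp.hom).app ((lP j).obj K) ≫
        (DCoh.Rpush (j' ≫ f')).map ((σcan w).inv.app K ≫ (lP j').map θ))) :
    IsIso ((bc adj adj' σ.hom).app K ≫ (DCoh.Rpush f').map θ) := by
  let ρ : lP g' ⋙ lP j' ≅ lP j ⋙ lP g'' := σcan w
  haveI := isIso_vPaste σ ρ
  let σp := asIso (vPaste σ.hom ρ.hom)
  let F := (lP j).obj K
  let θU : (lP g'').obj F ⟶ (lP j').obj N := ρ.inv.app K ≫ (lP j').map θ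
  have h1 := h ((adj.comp (adjLP j)).ofNatIsoRight (DPush.compIso j f))
    ((adj'.comp (adjLP j')).ofNatIsoRight (DPush.compIso j' f')) σp
  change IsIso (_ ≫ (DCoh.Rpush (j' ≫ f')).map θU) at h1
  have hc := (DPush.compIso j' f').hom.naturality θU
  simp only [Functor.comp_map] at hc
  rw [bc_ofNatIsoRight, Category.assoc, Category.assoc, ← hc] at h1
  haveI := h1
  haveI h1' := IsIso.of_isIso_comp_left ((lP g).map ((DPush.compIso j f).inv.app F))
    ((bc (adj.comp (adjLP j)) (adj'.comp (adjLP j')) σp.hom).app F ≫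
      (DCoh.Rpush f').map ((DCoh.Rpush j').map θU) ≫ (DPush.compIso j' f').hom.app ((lP j').obj N))
  have h2 : IsIso ((bc (adj.comp (adjLP j)) (adj'.comp (adjLP j')) (vPaste σ.hom ρ.hom)).app F ≫
      (DCoh.Rpush f').map ((DCoh.Rpush j').map θU)) := by
    haveI : IsIso (((bc (adj.comp (adjLP j)) (adj'.comp (adjLP j')) (vPaste σ.hom ρ.hom)).app F ≫
      (DCoh.Rpush f').map ((DCoh.Rpush j').map θU)) ≫ (DPush.compIso j' f').hom.app ((lP j').obj N)) := by
      rw [Category.assoc]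
      exact h1'
    exact IsIso.of_isIso_comp_right _ ((DPush.compIso j' f').hom.app ((lP j').obj N))
  rw [bc_vPaste adj adj' σ.hom (adjLP j) (adjLP j') ρ.hom, Category.assoc] at h2
  have key : (lP g').map ((adjLP j).unit.app K) ≫ (bc (adjLP j) (adjLP j') ρ.hom).app F ≫ (DCoh.Rpush j').map θU =
      θ ≫ (adjLP j').unit.app N := by
    have hθU : θU = ρ.inv.app K ≫ (lP j').map θ := rfl
    clear_value θU
    apply ((adjLP j').homEquiv _ _).symm.injective
    have hn := ρ.hom.naturality ((adjLP j).unit.app K)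
    simp only [Functor.comp_map] at hn
    have hm := map_bc_counit (adjLP j) (adjLP j') ρ.hom F
    have hc' := (adjLP j').counit.naturality θU
    simp only [Functor.comp_map, Functor.id_map] at hc'
    rw [Adjunction.homEquiv_counit, Adjunction.homEquiv_counit, Functor.map_comp, Functor.map_comp, Functor.map_comp,
      Category.assoc, Category.assoc, hc', reassoc_of% hm, reassoc_of% hn]
    simp [hθU, F, ← Functor.map_comp_assoc]
  have hb := (bc adj adj' σ.hom).naturality ((adjLP j).unit.app K)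
  simp only [Functor.comp_map] at hb
  haveI := h2
  haveI : IsIso (((bc adj adj' σ.hom).app K ≫ (DCoh.Rpush f').map θ) ≫
      (DCoh.Rpush f').map ((adjLP j').unit.app N)) := by
    rw [Category.assoc, ← Functor.map_comp, ← key, Functor.map_comp, Functor.map_comp, ← reassoc_of% hb]
    infer_instance
  exact IsIso.of_isIso_comp_right _ ((DCoh.Rpush f').map ((adjLP j').unit.app N))

end Groth.Agent.TwistBC9
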