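import Groth.Agent.Lib.TwistBC9.Induct
import Groth.Agent.Lib.TwistBC9.Affine
import Groth.Agent.Lib.TwistBC9.Local
import Groth.Agent.Lib.DMon9.ProjQC

/-!
# Twisted base change over affine bases
-/

set_option autoImplicit false
set_option linter.style.haveILetI false
set_option linter.unusedSectionVars false
set_option backward.isDefEq.respectTransparency false
set_option backward.isDefEq.respectTransparency.types false
set_option maxHeartbeats 1600000

universe u

open CategoryTheory CategoryTheory.Limits AlgebraicGeometry Pretriangulated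

attribute [local instance] HasDerivedCategory.standard

namespace Groth.Agent.TwistBC9

open DMon9 DBC9

attribute [local instance] DBC9.hasRpush

variable {X Y : Scheme.{u}}

theorem preservesCoproducts_tildeDD (R : CommRingCat.{u}) (ι : Type u) :
    PreservesColimitsOfShape (Discrete ι) (DPerf.tildeDD R) := by
  haveI : PreservesColimitsOfShape (Discrete ι) (DPerf.tildeX R) :=
    (KInjLib.adjComplexes (tilde.adjunction (R := R))
      (ComplexShape.up ℤ)).leftAdjoint_preservesColimits.preservesColimitsOfShape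
  exact RHom.preservesCoproducts_of_adapted (fun Z => preservesColimit_of_preserves_colimit_cocone (coproductIsCoproduct Z)
      ((Cofan.isColimitMapCoconeEquiv _ _ _).symm (KInjLib.isColimitSigma Z)))
    (DPerf.tildeDD R) (fun _ => True) (fun K => ⟨K, 𝟙 K, trivial, inferInstance⟩) (fun _ _ => trivial)
    (tilde.functor R).mapDerivedCategoryFactors.hom (fun K _ => inferInstance)

/-- Derived direct images commute with coproducts of quasi-coherent objects. -/
theorem nonempty_isColimit_rpush (f : X ⟶ Y) [QuasiCompact f] [QuasiSeparated f] {ι : Type u}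
    (Z : ι → DCoh.D X) (hZ : ∀ i, DCoh.IsQCohD (Z i)) {c : Cocone (Discrete.functor Z)} (hc : IsColimit c) :
    Nonempty (IsColimit ((DCoh.Rpush f).mapCocone c)) := by
  haveI := DPush.hasCoproduct_D Z
  haveI := DPush.hasCoproduct_D fun i => (DCoh.Rpush f).obj (Z i)
  haveI : IsIso (sigmaComparison (DCoh.Rpush f) Z) := S1000.result f Z hZ
  haveI : PreservesColimit (Discrete.functor Z) (DCoh.Rpush f) := PreservesCoproduct.of_iso_comparison _ _
  exact ⟨isColimitOfPreserves (DCoh.Rpush f) hc⟩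

/-- The structure sheaf in one degree. -/
noncomputable abbrev oneD (X : Scheme.{u}) (a : ℤ) : DCoh.D X :=
  (DerivedCategory.singleFunctor X.Modules a).obj (Coh.structureModule X)

/-- The restriction of the structure sheaf to an affine open. -/
theorem nonempty_lP_oneD {B : CommRingCat.{u}} (k : Spec B ⟶ X) [IsOpenImmersion k] (a : ℤ) :
    Nonempty ((DPerf.tildeDD B).obj ((TT B a).obj (ModuleCat.of B B)) ≅ (lP k).obj (oneD X a)) :=
  haveI : PreservesFiniteLimits (tilde.functor B) := M1.tilde_preservesFiniteLimits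
  ⟨((tilde.functor B).mapDerivedCategorySingleFunctor a).app _ ≪≫
    (DerivedCategory.singleFunctor (Spec B).Modules a).mapIso
      (tildeSelf ≪≫ (Scheme.Modules.restrictUnitIso k).symm) ≪≫
    (((Scheme.Modules.restrictFunctor k).mapDerivedCategorySingleFunctor a).app _).symm ≪≫
    ((lPRes k).app _).symm⟩

/-- The affine case, for a morphism which is the spectrum of a map. -/
theorem isIso_twist_spec' {A B A' B' : CommRingCat.{u}} (φ : A ⟶ B) (γ : A ⟶ A') (φ' : A' ⟶ B') (γ' : B ⟶ B')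
    (H : IsPushout γ φ φ' γ') {fB : Spec B ⟶ Spec A} (hf : fB = Spec.map φ) {fB' : Spec B' ⟶ Spec A'}
    (hf' : fB' = Spec.map φ')
    {L : DCoh.D (Spec A) ⥤ DCoh.D (Spec B)} (adj : L ⊣ DCoh.Rpush fB)
    {L' : DCoh.D (Spec A') ⥤ DCoh.D (Spec B')} (adj' : L' ⊣ DCoh.Rpush fB')
    (σ : lP (Spec.map γ) ⋙ L' ≅ L ⋙ lP (Spec.map γ'))
    (a : ℤ) (M : ModuleCat.{u} B) (hM : Module.Flat A ((ModuleCat.restrictScalars φ.hom).obj M))
    {K : DCoh.D (Spec B)} (eK : (DerivedCategory.singleFunctor (Spec B).Modules a).obj ((tilde.functor B).obj M) ≅ K)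
    {N : DCoh.D (Spec B')} (N' : (Spec B').Modules)
    (eN : N ≅ (DerivedCategory.singleFunctor (Spec B').Modules a).obj N')
    (θ : (lP (Spec.map γ')).obj K ⟶ N)
    (hθ : IsIso ((DerivedCategory.homologyFunctor (Spec B').Modules a).map θ)) :
    IsIso ((bc adj adj' σ.hom).app K ≫ (DCoh.Rpush fB').map θ) := by
  subst hf
  subst hf'
  have h := isIso_twist_spec φ γ φ' γ' H adj adj' σ a M hM eK N' (θ ≫ eN.hom) (by
    rw [Functor.map_comp]
    haveI := hθ
    infer_instance)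
  haveI : IsIso (((bc adj adj' σ.hom).app K ≫ (DCoh.Rpush (Spec.map φ')).map θ) ≫
      (DCoh.Rpush (Spec.map φ')).map eN.hom) := by
    rw [Category.assoc, ← Functor.map_comp]
    exact h
  exact IsIso.of_isIso_comp_right _ ((DCoh.Rpush (Spec.map φ')).map eN.hom)

/-- The hypotheses on a pair of functors and a comparison. -/
structure Twist {T T' : Scheme.{u}} (g'' : T' ⟶ T) (A : CommRingCat.{u}) (fT : T ⟶ Spec A)
    (Φ : DCoh.D T ⥤ DCoh.D T) (Ψ : DCoh.D T ⥤ DCoh.D T') (θ : Φ ⋙ lP g'' ⟶ Ψ) : Prop where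
  qcΦ : ∀ {E : DCoh.D T}, DCoh.IsQCohD E → DCoh.IsQCohD (Φ.obj E)
  qcΨ : ∀ {E : DCoh.D T}, DCoh.IsQCohD E → DCoh.IsQCohD (Ψ.obj E)
  locΦ : ∀ {U : Scheme.{u}} (k : U ⟶ T) [IsOpenImmersion k] {E E' : DCoh.D T} (w : E ⟶ E'),
    IsIso ((lP k).map w) → IsIso ((lP k).map (Φ.map w))
  locΨ : ∀ {U U' : Scheme.{u}} (k : U ⟶ T) [IsOpenImmersion k] (k' : U' ⟶ T') [IsOpenImmersion k'] (gk : U' ⟶ U)
    (_ : IsPullback gk k' k g'') {E E' : DCoh.D T} (w : E ⟶ E'),
    IsIso ((lP k).map w) → IsIso ((lP k').map (Ψ.map w))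
  pushΦ : ∀ {U : Scheme.{u}} [IsAffine U] (k : U ⟶ T) [IsOpenImmersion k] (F : DCoh.D U), DCoh.IsQCohD F →
    IsIso ((adjLP k).unit.app (Φ.obj ((DCoh.Rpush k).obj F)))
  pushΨ : ∀ {U U' : Scheme.{u}} [IsAffine U] (k : U ⟶ T) [IsOpenImmersion k] (k' : U' ⟶ T') [IsOpenImmersion k']
    (gk : U' ⟶ U) (_ : IsPullback gk k' k g'') (F : DCoh.D U), DCoh.IsQCohD F →
    IsIso ((adjLP k').unit.app (Ψ.obj ((DCoh.Rpush k).obj F)))
  gen : ∀ {B B' : CommRingCat.{u}} (k : Spec B ⟶ T) [IsOpenImmersion k] (k' : Spec B' ⟶ T') [IsOpenImmersion k']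
    (gk : Spec B' ⟶ Spec B) (_ : IsPullback gk k' k g'') (φ : A ⟶ B) (_ : Spec.map φ = k ≫ fT) (a : ℤ),
    ∃ (M : ModuleCat.{u} B) (N' : (Spec B').Modules),
      Module.Flat A ((ModuleCat.restrictScalars φ.hom).obj M) ∧
      Nonempty ((DerivedCategory.singleFunctor (Spec B).Modules a).obj ((tilde.functor B).obj M) ≅
        (lP k).obj (Φ.obj (oneD T a))) ∧
      Nonempty ((lP k').obj (Ψ.obj (oneD T a)) ≅ (DerivedCategory.singleFunctor (Spec B').Modules a).obj N') ∧
      IsIso ((DerivedCategory.homologyFunctor (Spec B').Modules a).map ((lP k').map (θ.app (oneD T a))))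

variable {A A' : CommRingCat.{u}} (γ : A ⟶ A') {T T' : Scheme.{u}} (fT : T ⟶ Spec A)
  {f'' : T' ⟶ Spec A'} {g'' : T' ⟶ T} (H : IsPullback g'' f'' fT (Spec.map γ))
  {L : DCoh.D (Spec A) ⥤ DCoh.D T} (adj : L ⊣ DCoh.Rpush fT)
  {L' : DCoh.D (Spec A') ⥤ DCoh.D T'} (adj' : L' ⊣ DCoh.Rpush f'')
  (σ : lP (Spec.map γ) ⋙ L' ≅ L ⋙ lP g'')
  (Φ : DCoh.D T ⥤ DCoh.D T) (Ψ : DCoh.D T ⥤ DCoh.D T') (θ : Φ ⋙ lP g'' ⟶ Ψ)

/-- The twisted base change transformation. -/
noncomputable def tau : Φ ⋙ (DCoh.Rpush fT ⋙ lP (Spec.map γ)) ⟶ Ψ ⋙ DCoh.Rpush f'' where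
  app E := (bc adj adj' σ.hom).app (Φ.obj E) ≫ (DCoh.Rpush f'').map (θ.app E)
  naturality E E' w := by
    have h1 := (bc adj adj' σ.hom).naturality (Φ.map w)
    have h2 := congrArg (DCoh.Rpush f'').map (θ.naturality w)
    simp only [Functor.comp_map, Functor.map_comp] at h1 h2 ⊢
    rw [reassoc_of% h1, h2, Category.assoc]

variable [Φ.IsLeftAdjoint] [Ψ.IsLeftAdjoint] (hT : Twist g'' A fT Φ Ψ θ)

include H hT

/-- The twisted base change map on a generator. -/
theorem isIso_tau_gen {B : CommRingCat.{u}} (k : Spec B ⟶ T) [IsOpenImmersion k] (a : ℤ) :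
    IsIso ((tau γ fT adj adj' σ Φ Ψ θ).app ((DCoh.Rpush k).obj ((lP k).obj (oneD T a)))) := by
  obtain ⟨φ, hφ⟩ : ∃ φ : A ⟶ B, Spec.map φ = k ≫ fT := ⟨Spec.preimage (k ≫ fT), Spec.map_preimage _⟩
  let B' := pushout γ φ
  let φ' : A' ⟶ B' := pushout.inl γ φ
  let γ' : B ⟶ B' := pushout.inr γ φ
  have hp : IsPushout γ φ φ' γ' := IsPushout.of_hasPushout γ φ
  have hP : IsPullback (Spec.map γ') (Spec.map φ') (Spec.map φ) (Spec.map γ) :=
    (isPullback_SpecMap_of_isPushout _ _ _ _ hp).flip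
  rw [hφ] at hP
  let k' : Spec B' ⟶ T' := H.lift (Spec.map γ' ≫ k) (Spec.map φ') (by rw [Category.assoc]; exact hP.w)
  have hk'₁ : k' ≫ g'' = Spec.map γ' ≫ k := H.lift_fst _ _ _
  have hk'₂ : k' ≫ f'' = Spec.map φ' := H.lift_snd _ _ _
  have hsq : IsPullback (Spec.map γ') k' k g'' :=
    IsPullback.of_bot (by rw [hk'₂]; exact hP) hk'₁.symm H
  haveI : IsOpenImmersion k' := MorphismProperty.of_isPullback hsq ‹IsOpenImmersion k›
  obtain ⟨M, N', hM, ⟨eK⟩, ⟨eN⟩, hθ⟩ := hT.gen k k' (Spec.map γ') hsq φ hφ a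
  let F := (lP k).obj (oneD T a)
  obtain ⟨eF⟩ := nonempty_lP_oneD k a
  have hF : DCoh.IsQCohD F := DQC.isQCohD_of_iso eF (DQC.isQCohD_obj _)
  let E := (DCoh.Rpush k).obj F
  let w : oneD T a ⟶ E := (adjLP k).unit.app _
  haveI := isIso_counit_openImmersion k
  haveI hw : IsIso ((lP k).map w) := by
    haveI : IsIso ((lP k).map w ≫ (adjLP k).counit.app F) :=
      (adjLP k).left_triangle_components (oneD T a) ▸ inferInstanceAs (IsIso (𝟙 F))
    exact IsIso.of_isIso_comp_right _ ((adjLP k).counit.app F)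
  haveI := hT.locΦ k w hw
  haveI := hT.locΨ k k' (Spec.map γ') hsq w hw
  haveI := hT.pushΦ k F hF
  haveI := hT.pushΨ k k' (Spec.map γ') hsq F hF
  refine isIso_twist_push (j := k) (j' := k') (g'' := Spec.map γ') hk'₁ adj adj' σ (θ.app E)
    fun a₂ a₂' σp => ?_
  refine isIso_twist_spec' φ γ φ' γ' hp hφ.symm hk'₂ a₂ a₂' σp a M hM
    (eK ≪≫ asIso ((lP k).map (Φ.map w))) N' ((asIso ((lP k').map (Ψ.map w))).symm ≪≫ eN) _ ?_
  haveI := hθ
  have hn := congrArg (lP k').map (θ.naturality w)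
  simp only [Functor.comp_map, Functor.map_comp] at hn
  haveI : IsIso ((lP k').map ((lP g'').map (Φ.map w))) := by
    haveI : IsIso ((lP k ⋙ lP (Spec.map γ')).map (Φ.map w)) :=
      inferInstanceAs (IsIso ((lP (Spec.map γ')).map ((lP k).map (Φ.map w))))
    exact (NatIso.isIso_map_iff (σcan hk'₁) (Φ.map w)).2 this
  haveI : IsIso ((DerivedCategory.homologyFunctor (Spec B').Modules a).map
      ((lP k').map ((lP g'').map (Φ.map w))) ≫
      (DerivedCategory.homologyFunctor (Spec B').Modules a).map ((lP k').map (θ.app E))) := by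
    rw [← Functor.map_comp, hn, Functor.map_comp]
    infer_instance
  haveI := IsIso.of_isIso_comp_left ((DerivedCategory.homologyFunctor (Spec B').Modules a).map
      ((lP k').map ((lP g'').map (Φ.map w))))
      ((DerivedCategory.homologyFunctor (Spec B').Modules a).map ((lP k').map (θ.app E)))
  rw [Functor.map_comp]
  infer_instance

/-- The twisted base change map is an isomorphism. -/
theorem isIso_tau [CompactSpace T] [QuasiSeparatedSpace T] (E : DCoh.D T) (hE : DCoh.IsQCohD E) :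
    IsIso ((tau γ fT adj adj' σ Φ Ψ θ).app E) := by
  haveI : QuasiCompact g'' := MorphismProperty.of_isPullback H.flip (inferInstance : QuasiCompact (Spec.map γ))
  haveI : QuasiSeparated g'' := MorphismProperty.of_isPullback H.flip (inferInstance : QuasiSeparated (Spec.map γ))
  haveI : CompactSpace T' := QuasiCompact.compactSpace_of_compactSpace g''
  haveI : QuasiSeparatedSpace T' := quasiSeparatedSpace_of_quasiSeparated g''
  haveI : QuasiCompact fT := inferInstance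
  haveI : QuasiSeparated fT := inferInstance
  haveI : QuasiCompact f'' := inferInstance
  haveI : QuasiSeparated f'' := inferInstance
  obtain ⟨cR, hR⟩ := DPush.exists_commShift_isTriangulated fT
  obtain ⟨cR', hR'⟩ := DPush.exists_commShift_isTriangulated f''
  obtain ⟨cG, hG⟩ := DPush.exists_commShift_isTriangulated (Spec.map γ)
  letI := (adjLP (Spec.map γ)).leftAdjointCommShift ℤ
  haveI := (adjLP (Spec.map γ)).commShift_of_rightAdjoint ℤ
  haveI : (lP (Spec.map γ)).IsTriangulated := (adjLP (Spec.map γ)).isTriangulated_leftAdjoint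
  haveI : (lP (Spec.map γ)).IsLeftAdjoint := (adjLP (Spec.map γ)).isLeftAdjoint
  let τ := tau γ fT adj adj' σ Φ Ψ θ
  have hF₁ : ∀ j, RHom.HExact ((Φ ⋙ (DCoh.Rpush fT ⋙ lP (Spec.map γ))) ⋙ DerivedCategory.homologyFunctor _ j) :=
    fun j => hExact_comp Φ (homExact_of_isLeftAdjoint _) (DCoh.Rpush fT ⋙ lP (Spec.map γ)) j
  have hF₂ : ∀ j, RHom.HExact ((Ψ ⋙ DCoh.Rpush f'') ⋙ DerivedCategory.homologyFunctor _ j) :=
    fun j => hExact_comp Ψ (homExact_of_isLeftAdjoint _) (DCoh.Rpush f'') j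
  let Q : DCoh.D T → Prop := fun N => ∀ n : ℤ, IsIso (τ.app (N⟦n⟧))
  have hfive : ∀ T₀ ∈ (distTriang (DCoh.D T)), Q T₀.obj₁ → Q T₀.obj₂ → Q T₀.obj₃ := fun T₀ hT₀ h₁ h₂ n => by
    have hd := Triangle.shift_distinguished T₀ hT₀ n
    refine RHom.isIso_of_isIso_homology _ fun j => ?_
    have hs : ∀ N : DCoh.D T, Q N → IsIso (τ.app ((N⟦n⟧)⟦(1 : ℤ)⟧)) := fun N hN =>
      (NatTrans.isIso_app_iff_of_iso _ ((shiftFunctorAdd _ n (1 : ℤ)).app N)).1 (hN (n + 1))
    have hmap : ∀ N : DCoh.D T, IsIso (τ.app N) →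
        IsIso ((Functor.whiskerRight τ (DerivedCategory.homologyFunctor _ j)).app N) := fun N hN =>
      haveI := hN
      inferInstanceAs (IsIso ((DerivedCategory.homologyFunctor _ j).map (τ.app N)))
    exact RHom.isIso_app_obj₃ (hF₁ j) (hF₂ j) (Functor.whiskerRight τ _) _ hd
      (hmap _ (h₁ n)) (hmap _ (h₂ n)) (hmap _ (hs _ h₁)) (hmap _ (hs _ h₂))
  have hQ : Ext3 Q :=
    { iso := fun e h n => (NatTrans.isIso_app_iff_of_iso _ ((shiftFunctor _ n).mapIso e)).1 (h n)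
      shift := fun {Z} m h n => (NatTrans.isIso_app_iff_of_iso _ ((shiftFunctorAdd _ m n).app Z)).1 (h (m + n))
      ext := fun T₀ hT₀ h₁ h₃ => hfive T₀.invRotate (inv_rot_of_distTriang _ hT₀)
        (fun n => (NatTrans.isIso_app_iff_of_iso _ ((shiftFunctorAdd _ (-1 : ℤ) n).app T₀.obj₃)).1 (h₃ (-1 + n))) h₁ }
  refine (NatTrans.isIso_app_iff_of_iso _ ((shiftFunctorZero _ ℤ).app E)).1
    (qc_induction hQ (fun V hV => ?_) E hE 0)
  intro U k _ hr F hF
  let e : Spec Γ(T, V) ≅ U := IsOpenImmersion.isoOfRangeEq hV.fromSpec k (by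
    rw [← Scheme.Hom.coe_opensRange, ← Scheme.Hom.coe_opensRange, hr, IsAffineOpen.opensRange_fromSpec])
  haveI : IsAffine U := IsAffine.of_isIso e.inv
  let k₁ : Spec Γ(T, V) ⟶ T := e.hom ≫ k
  haveI : QuasiCompact k₁ := (quasiCompact_iff_compactSpace (f := k₁)).2 inferInstance
  obtain ⟨ck, hk⟩ := DPush.exists_commShift_isTriangulated k₁
  let Tk : Dual.D Γ(T, V) ⥤ DCoh.D T := DPerf.tildeDD Γ(T, V) ⋙ DCoh.Rpush k₁
  haveI : PreservesFiniteLimits (tilde.functor Γ(T, V)) := M1.tilde_preservesFiniteLimits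
  let P : Dual.D Γ(T, V) → Prop := fun N => Q (Tk.obj N)
  have hP : DMon9.Loc P :=
    { iso := fun e h => hQ.iso (Tk.mapIso e) h
      zero := fun {Z} hZ n => by
        have hz : IsZero ((Tk.obj Z)⟦n⟧) := (shiftFunctor _ n).map_isZero (Tk.map_isZero hZ)
        exact ((Φ ⋙ DCoh.Rpush fT ⋙ lP (Spec.map γ)).map_isZero hz).isIso
          ((Ψ ⋙ DCoh.Rpush f'').map_isZero hz) _
      shift := fun {Z} m h => hQ.iso ((Tk.commShiftIso m).app Z).symm (hQ.shift m h)
      cone := fun T₀ hT₀ h₁ h₂ => hfive _ (Tk.map_distinguished _ hT₀) h₁ h₂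
      coprod := fun {ι} Z h n => by
        haveI := DCompact9.preservesColimitsOfShape_Q (R := Γ(T, V)) (Equiv.refl ι)
        haveI := preservesCoproducts_tildeDD Γ(T, V) ι
        let H₁ : CochainComplex (ModuleCat.{u} Γ(T, V)) ℤ ⥤ DCoh.D (Spec Γ(T, V)) :=
          DerivedCategory.Q ⋙ DPerf.tildeDD Γ(T, V)
        let W₁ : ι → DCoh.D (Spec Γ(T, V)) := fun i => H₁.obj (Z i)
        let d₁ : Discrete.functor W₁ ≅ Discrete.functor Z ⋙ H₁ := Discrete.natIso fun _ => Iso.refl _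
        have hc₁ := (IsColimit.precomposeHomEquiv d₁ _).symm (isColimitOfPreserves H₁ (coproductIsCoproduct Z))
        obtain ⟨hc₂⟩ := nonempty_isColimit_rpush k₁ W₁ (fun i => DQC.isQCohD_obj _) hc₁
        let W : ι → DCoh.D T := fun i => ((DCoh.Rpush k₁).obj (W₁ i))⟦n⟧
        have hc₃ := isColimitOfPreserves (shiftFunctor (DCoh.D T) n) hc₂
        let d : Discrete.functor W ≅
            (Discrete.functor W₁ ⋙ DCoh.Rpush k₁) ⋙ shiftFunctor (DCoh.D T) n :=
          Discrete.natIso fun _ => Iso.refl _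
        have hc := (IsColimit.precomposeHomEquiv d _).symm hc₃
        have hW : ∀ i, DCoh.IsQCohD (W i) := fun i =>
          DMV.isQCohD_shift _ (DPush.isQCohD_rpush k₁ _ (DQC.isQCohD_obj _)) n
        let WΦ : ι → DCoh.D T := fun i => Φ.obj (W i)
        let dΦ : Discrete.functor WΦ ≅ Discrete.functor W ⋙ Φ := Discrete.natIso fun _ => Iso.refl _
        haveI : PreservesColimit (Discrete.functor WΦ) (DCoh.Rpush fT) :=
          ⟨fun hc' => nonempty_isColimit_rpush fT WΦ (fun i => hT.qcΦ (hW i)) hc'⟩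
        haveI : PreservesColimit (Discrete.functor W ⋙ Φ) (DCoh.Rpush fT) :=
          preservesColimit_of_iso_diagram _ dΦ
        haveI : PreservesColimit (Discrete.functor W) (Φ ⋙ (DCoh.Rpush fT ⋙ lP (Spec.map γ))) :=
          inferInstanceAs (PreservesColimit (Discrete.functor W) ((Φ ⋙ DCoh.Rpush fT) ⋙ lP (Spec.map γ)))
        let WΨ : ι → DCoh.D T' := fun i => Ψ.obj (W i)
        let dΨ : Discrete.functor WΨ ≅ Discrete.functor W ⋙ Ψ := Discrete.natIso fun _ => Iso.refl _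
        haveI : PreservesColimit (Discrete.functor WΨ) (DCoh.Rpush f'') :=
          ⟨fun hc' => nonempty_isColimit_rpush f'' WΨ (fun i => hT.qcΨ (hW i)) hc'⟩
        haveI : PreservesColimit (Discrete.functor W ⋙ Ψ) (DCoh.Rpush f'') :=
          preservesColimit_of_iso_diagram _ dΨ
        exact RHom.isIso_app_of_isColimit τ hc fun i => h i.as n }
  have hgen : ∀ a : ℤ, P (DerivedCategory.Q.obj
      ((HomologicalComplex.single (ModuleCat.{u} Γ(T, V)) (ComplexShape.up ℤ) a).obj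
        (ModuleCat.of Γ(T, V) Γ(T, V)))) := fun a n => by
    let sh : ((TT Γ(T, V) a).obj (ModuleCat.of Γ(T, V) Γ(T, V)))⟦n⟧ ≅
        (TT Γ(T, V) (a - n)).obj (ModuleCat.of Γ(T, V) Γ(T, V)) :=
      ((DerivedCategory.singleFunctors (ModuleCat.{u} Γ(T, V))).shiftIso n (a - n) a (by omega)).app _
    obtain ⟨eo⟩ := nonempty_lP_oneD k₁ (a - n)
    exact (NatTrans.isIso_app_iff_of_iso _ (((Tk.commShiftIso n).app _).symm ≪≫ Tk.mapIso sh ≪≫
      (DCoh.Rpush k₁).mapIso eo)).2 (isIso_tau_gen γ fT H adj adj' σ Φ Ψ θ hT k₁ (a - n))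
  have hsep : IsSeparator (ModuleCat.of Γ(T, V) Γ(T, V)) := (isSeparator_def _).2 fun {P Q} g g' hh => by
    ext x
    have h1 := congrArg (fun t => t.hom 1) (hh (ModuleCat.ofHom (LinearMap.toSpanSingleton Γ(T, V) P x)))
    simpa using h1
  obtain ⟨N, ⟨eN⟩⟩ := DQC.exists_iso_of_isQCohD ((lP e.hom).obj F) (isQCohD_lP _ hF)
  have hPN : P N := hP.all (ModuleCat.of Γ(T, V) Γ(T, V)) hsep hgen N
  haveI := isIso_counit_openImmersion e.hom
  let c : (lP e.inv).obj ((lP e.hom).obj F) ≅ F := (lPComp e.inv e.hom e.inv_hom_id).app F ≪≫ (lPId U).app F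
  have hu : IsIso ((adjLP e.hom).unit.app F) := by
    have h1 : IsIso ((lP e.hom).map ((adjLP e.hom).unit.app F)) := by
      haveI : IsIso ((lP e.hom).map ((adjLP e.hom).unit.app F) ≫
          (adjLP e.hom).counit.app ((lP e.hom).obj F)) :=
        (adjLP e.hom).left_triangle_components F ▸ inferInstanceAs (IsIso (𝟙 _))
      exact IsIso.of_isIso_comp_right _ ((adjLP e.hom).counit.app ((lP e.hom).obj F))
    let cU : lP e.hom ⋙ lP e.inv ≅ 𝟭 (DCoh.D U) := lPComp e.inv e.hom e.inv_hom_id ≪≫ lPId U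
    exact (NatIso.isIso_map_iff cU _).1
      (inferInstanceAs (IsIso ((lP e.inv).map ((lP e.hom).map ((adjLP e.hom).unit.app F)))))
  exact hQ.iso ((DCoh.Rpush k₁).mapIso eN ≪≫ ((DPush.compIso e.hom k).app _).symm ≪≫
    (DCoh.Rpush k).mapIso (asIso ((adjLP e.hom).unit.app F)).symm) hPN

end Groth.Agent.TwistBC9
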