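import Groth.Agent.Lib.TwistBC9.CokFree
import Groth.Agent.Lib.DPerf.RankSC
import Mathlib.RingTheory.Flat.Localization
import Mathlib.RingTheory.Localization.AtPrime.Basic
import Mathlib.RingTheory.Flat.Basic
import Mathlib.RingTheory.Finiteness.Quotient

/-!
# A projective cokernel from the fibre cohomology in degree zero
-/

set_option autoImplicit false
set_option linter.style.haveILetI false
set_option linter.unusedSectionVars false
set_option maxHeartbeats 800000

universe u

open CategoryTheory TensorProduct

namespace Groth.Agent.TwistBC9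

open DPerf.RankSC

variable {R : Type u} [CommRing R] (P : DRing.Cx R)

/-- The cokernel into degree zero. -/
abbrev CZero : Type u := P.X 0 ⧸ LinearMap.range (P.d (0 - 1) 0).hom

/-- The map out of the cokernel into degree zero. -/
def dBar : CZero P →ₗ[R] P.X (0 + 1) :=
  (LinearMap.range (P.d (0 - 1) 0).hom).liftQ (P.d 0 (0 + 1)).hom (by
    rintro _ ⟨y, rfl⟩
    change P.d 0 (0 + 1) (P.d (0 - 1) 0 y) = 0
    rw [← ModuleCat.comp_apply, P.d_comp_d]
    rfl)

theorem dBar_mkQ : dBar P ∘ₗ (LinearMap.range (P.d (0 - 1) 0).hom).mkQ = (P.d 0 (0 + 1)).hom :=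
  Submodule.liftQ_mkQ _ _ _

theorem range_dBar : LinearMap.range (dBar P) = LinearMap.range (P.d 0 (0 + 1)).hom := Submodule.range_liftQ _ _ _

theorem rk_eq (p q : ℤ) {K : Type u} [Field K] [Algebra R K] :
    rk P (algebraMap R K) p q = Module.finrank K (LinearMap.range ((P.d p q).hom.baseChange K)) := by
  have h2 : (FlatCxLib.extEquiv K (P.X q)).toLinearMap ∘ₗ
      ((ModuleCat.extendScalars (algebraMap R K)).map (P.d p q)).hom =
        (P.d p q).hom.baseChange K ∘ₗ (FlatCxLib.extEquiv K (P.X p)).toLinearMap :=
    LinearMap.ext fun x => FlatCxLib.extEquiv_map K (P.d p q) x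
  have h3 := congrArg LinearMap.range h2
  rw [LinearMap.range_comp, LinearMap.range_comp_of_range_eq_top _
    (LinearEquiv.range (FlatCxLib.extEquiv K (P.X p)))] at h3
  rw [← h3, LinearEquiv.finrank_map_eq]
  rfl

variable [∀ i, Module.Finite R (P.X i)] [∀ i, Module.Free R (P.X i)]

/-- The residual kernel has the size of the fibre cohomology. -/
theorem finrank_ker_dBar [Nontrivial R] (K : Type u) [Field K] [Algebra R K] :
    Module.finrank K (LinearMap.ker ((dBar P).baseChange K)) =
      Module.finrank K (((extCx (algebraMap R K)).obj P).homology 0) := by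
  let q := ((LinearMap.range (P.d (0 - 1) 0).hom).mkQ).baseChange K
  have hq : Function.Surjective q := by
    intro z
    obtain ⟨w, hw⟩ := LinearMap.lTensor_surjective K (Submodule.mkQ_surjective _) z
    exact ⟨w, hw⟩
  have hker : LinearMap.ker q = LinearMap.range ((P.d (0 - 1) 0).hom.baseChange K) := by
    have hex : Function.Exact (P.d (0 - 1) 0).hom ((LinearMap.range (P.d (0 - 1) 0).hom).mkQ) :=
      LinearMap.exact_map_mkQ_range _
    have := lTensor_exact K hex (Submodule.mkQ_surjective _)
    ext z
    exact this z
  have h1 := LinearMap.finrank_range_add_finrank_ker q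
  rw [hker, LinearMap.range_eq_top.2 hq, finrank_top] at h1
  have h2 := LinearMap.finrank_range_add_finrank_ker ((dBar P).baseChange K)
  have h3 : LinearMap.range ((dBar P).baseChange K) = LinearMap.range ((P.d 0 (0 + 1)).hom.baseChange K) := by
    rw [← dBar_mkQ P, LinearMap.baseChange_comp, LinearMap.range_comp_of_range_eq_top _ (LinearMap.range_eq_top.2 hq)]
  rw [h3] at h2
  have h4 := finrank_homology_ext P (algebraMap R K) 0
  have h5 : Module.finrank K (K ⊗[R] P.X 0) = Module.finrank R (P.X 0) := Module.finrank_baseChange
  rw [rk_eq, rk_eq, ← h5] at h4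
  have h1' : Module.finrank K (K ⊗[R] CZero P) +
      Module.finrank K (LinearMap.range ((P.d (0 - 1) 0).hom.baseChange K)) = Module.finrank K (K ⊗[R] P.X 0) := h1
  omega

/-- Residual kernels of size at most the rank of the free kernel make the cokernel projective. -/
theorem projective_coker [Nontrivial R] (n : ℕ) (b : Module.Basis (Fin n) R (LinearMap.ker (dBar P)))
    (h : ∀ (K : Type u) [Field K] [Algebra R K],
      Module.finrank K (((extCx (algebraMap R K)).obj P).homology 0) ≤ n) :
    Module.Projective R (P.X (0 + 1) ⧸ LinearMap.range (P.d 0 (0 + 1)).hom) := by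
  let M := P.X (0 + 1) ⧸ LinearMap.range (dBar P)
  suffices hM : Module.Projective R M by
    exact Module.Projective.of_equiv (Submodule.quotEquivOfEq _ _ (range_dBar P))
  haveI : Module.FinitePresentation R M :=
    Module.finitePresentation_of_free_of_surjective (LinearMap.range (dBar P)).mkQ (Submodule.mkQ_surjective _)
      (by rw [Submodule.ker_mkQ]; exact Module.Finite.iff_fg.1 inferInstance)
  suffices hf : Module.Flat R M by exact Module.Flat.projective_of_finitePresentation
  refine Module.flat_of_localized_maximal M fun m _ => ?_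
  let A := Localization.AtPrime m
  let eM : LocalizedModule m.primeCompl M ≃ₗ[A] A ⊗[R] M :=
    ((IsLocalizedModule.isBaseChange m.primeCompl A (LocalizedModule.mkLinearMap m.primeCompl M)).equiv).symm
  let dA := (dBar P).baseChange A
  let κ := IsLocalRing.ResidueField A
  haveI : Nontrivial A := inferInstance
  -- the kernel after localisation
  have hfl : Module.Flat R A := IsLocalization.flat A m.primeCompl
  let ιA := (LinearMap.ker (dBar P)).subtype.baseChange A
  have hι : Function.Injective ιA := Module.Flat.lTensor_preserves_injective_linearMap _ Subtype.val_injective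
  have hr : LinearMap.range ιA = LinearMap.ker dA := by
    have := Module.Flat.lTensor_exact A (dBar P).exact_subtype_ker_map
    ext z
    exact (this z).symm
  let bA : Module.Basis (Fin n) A (LinearMap.ker dA) :=
    (b.baseChange A).map ((LinearEquiv.ofInjective ιA hι).trans (LinearEquiv.ofEq _ _ hr))
  -- the residual kernel
  have hk : Module.finrank κ (LinearMap.ker (dA.baseChange κ)) ≤ n := by
    refine le_trans (le_of_eq ?_) (h κ)
    rw [← finrank_ker_dBar P κ]
    let e₁ := AlgebraTensorModule.cancelBaseChange R A κ κ (CZero P)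
    let e₂ := AlgebraTensorModule.cancelBaseChange R A κ κ (P.X (0 + 1))
    have hc : e₂.toLinearMap ∘ₗ dA.baseChange κ = (dBar P).baseChange κ ∘ₗ e₁.toLinearMap := by
      ext z
      simp [e₁, e₂, dA]
    have : (LinearMap.ker (dA.baseChange κ)).map (e₁ : κ ⊗[A] (A ⊗[R] CZero P) →ₗ[κ] κ ⊗[R] CZero P) =
        LinearMap.ker ((dBar P).baseChange κ) := by
      ext z
      obtain ⟨w, rfl⟩ := e₁.surjective z
      have hw := LinearMap.congr_fun hc w
      simp only [LinearMap.comp_apply, LinearEquiv.coe_coe] at hw
      rw [Submodule.mem_map_equiv, LinearEquiv.symm_apply_apply, LinearMap.mem_ker, LinearMap.mem_ker, ← hw]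
      exact (map_eq_zero_iff e₂ e₂.injective).symm
    rw [← this, LinearEquiv.finrank_map_eq]
  haveI := coker_free_of_ker dA n bA hk
  -- the cokernel after localisation
  have hex : Function.Exact dA ((LinearMap.range (dBar P)).mkQ.baseChange A) :=
    lTensor_exact A (LinearMap.exact_map_mkQ_range _) (Submodule.mkQ_surjective _)
  have hs : Function.Surjective ((LinearMap.range (dBar P)).mkQ.baseChange A) :=
    LinearMap.lTensor_surjective _ (Submodule.mkQ_surjective _)
  haveI : Module.Flat A ((A ⊗[R] P.X (0 + 1)) ⧸ LinearMap.range dA) := inferInstance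
  haveI : Module.Flat R ((A ⊗[R] P.X (0 + 1)) ⧸ LinearMap.range dA) := Module.Flat.trans R A _
  exact Module.Flat.of_linearEquiv ((eM.trans (hex.linearEquivOfSurjective hs).symm).restrictScalars R)

end Groth.Agent.TwistBC9
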