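import Groth.Agent.Lib.DGen9.RelLocal
import Groth.Agent.Lib.DBC9.Main

/-!
# Induction from affine opens for quasi-coherent objects
-/

set_option autoImplicit false
set_option linter.style.haveILetI false
set_option linter.unusedSectionVars false
set_option backward.isDefEq.respectTransparency false
set_option backward.isDefEq.respectTransparency.types false
set_option maxHeartbeats 800000

universe u

open CategoryTheory CategoryTheory.Limits AlgebraicGeometry Pretriangulated

attribute [local instance] HasDerivedCategory.standard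

namespace Groth.Agent.TwistBC9

open DMon9

attribute [local instance] DBC9.hasRpush

variable {X : Scheme.{u}}

/-- A class closed under isomorphisms, shifts and extensions. -/
structure Ext3 (P : DCoh.D X → Prop) : Prop where
  iso : ∀ {A B : DCoh.D X}, (A ≅ B) → P A → P B
  shift : ∀ {A : DCoh.D X} (n : ℤ), P A → P (A⟦n⟧)
  ext : ∀ T ∈ (distTriang (DCoh.D X)), P T.obj₁ → P T.obj₃ → P T.obj₂

variable (P : DCoh.D X → Prop)

/-- The class contains all direct images from an open. -/
def OverOpen (S : X.Opens) : Prop :=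
  ∀ (T : Scheme.{u}) (k : T ⟶ X) (_ : IsOpenImmersion k), k.opensRange = S →
    ∀ F : DCoh.D T, DCoh.IsQCohD F → P ((DCoh.Rpush k).obj F)

variable {P} (hP : Ext3 P)

include hP in
theorem overOpen_union {S V : X.Opens} (h₁ : OverOpen P S) (h₂ : OverOpen P V) (h₃ : OverOpen P (S ⊓ V)) :
    OverOpen P (S ⊔ V) := by
  intro T k _ hr F hF
  have hpq : k ⁻¹ᵁ S ⊔ k ⁻¹ᵁ V = ⊤ := by
    rw [← Scheme.Hom.preimage_sup, ← hr]
    exact k.preimage_opensRange
  obtain ⟨_, _⟩ := DPush.exists_commShift_isTriangulated k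
  have piece : ∀ (r : T.Opens) (U : X.Opens), r = k ⁻¹ᵁ U → U ≤ S ⊔ V → OverOpen P U →
      P ((DCoh.Rpush k).obj ((DCoh.Rpush r.ι).obj ((DPerf.resD r.ι).obj F))) := by
    intro r U hrU hU h
    have := h (r : Scheme.{u}) (r.ι ≫ k) inferInstance (by
      rw [Scheme.Hom.opensRange_comp, Scheme.Opens.opensRange_ι, hrU,
        Scheme.Hom.image_preimage_eq_opensRange_inf, hr, inf_eq_right.2 hU]) _ (DQC.isQCohD_resD r.ι hF)
    exact hP.iso ((DPush.compIso r.ι k).app _).symm this
  obtain ⟨a, b, c, hT⟩ := DMV.exists_open_triangle (k ⁻¹ᵁ S) (k ⁻¹ᵁ V) hpq F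
  refine hP.ext _ ((DCoh.Rpush k).map_distinguished _ (inv_rot_of_distTriang _ hT)) ?_ ?_
  · exact hP.iso (((DCoh.Rpush k).commShiftIso (-1 : ℤ)).app _).symm
      (hP.shift (-1) (piece _ (S ⊓ V) rfl (inf_le_left.trans le_sup_left) h₃))
  · exact hP.ext _ ((DCoh.Rpush k).map_distinguished _ (binaryBiproductTriangle_distinguished _ _))
      (piece _ S rfl le_sup_left h₁) (piece _ V rfl le_sup_right h₂)

/-- A class containing the direct images from affine opens contains everything quasi-coherent. -/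
theorem qc_induction [CompactSpace X] [QuasiSeparatedSpace X] (hP : Ext3 P)
    (h : ∀ (V : X.Opens), IsAffineOpen V → OverOpen P V) (E : DCoh.D X) (hE : DCoh.IsQCohD E) : P E := by
  have bot : OverOpen P ⊥ := h ⊥ (isAffineOpen_bot X)
  have sep : ∀ V₀ : X.Opens, IsAffineOpen V₀ → ∀ S : X.Opens, IsCompact (S : Set X) →
      S ≤ V₀ → ∀ D : X.Opens, IsAffineOpen D → D ≤ V₀ → OverOpen P (S ⊓ D) := by
    intro V₀ hV₀ S hS
    refine compact_open_induction_on (P := fun S => S ≤ V₀ → ∀ D : X.Opens, IsAffineOpen D → D ≤ V₀ →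
      OverOpen P (S ⊓ D)) S hS (fun _ D _ _ => by rw [bot_inf_eq]; exact bot) ?_
    intro S hS W hS' hle₀ D hD hD₀
    have hW₀ : (W : X.Opens) ≤ V₀ := le_sup_right.trans hle₀
    have hWD : IsAffineOpen ((W : X.Opens) ⊓ D) := DBC9.isAffineOpen_inf W.2 hD hV₀ hW₀ hD₀
    rw [inf_sup_right]
    refine overOpen_union hP (hS' (le_sup_left.trans hle₀) D hD hD₀) (h _ hWD) ?_
    rw [show S ⊓ D ⊓ ((W : X.Opens) ⊓ D) = S ⊓ ((W : X.Opens) ⊓ D) by ac_rfl]
    exact hS' (le_sup_left.trans hle₀) _ hWD (inf_le_left.trans hW₀)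
  have all : ∀ S : X.Opens, IsCompact (S : Set X) → OverOpen P S := by
    intro S hS
    refine compact_open_induction_on (P := fun S => OverOpen P S) S hS bot ?_
    intro S hS W hS'
    refine overOpen_union hP hS' (h _ W.2) ?_
    have hSW : IsCompact ((S ⊓ (W : X.Opens) : X.Opens) : Set X) :=
      (quasiSeparatedSpace_iff X).1 inferInstance S (W : X.Opens) S.2 hS (W : X.Opens).2 W.2.isCompact
    rw [show S ⊓ (W : X.Opens) = S ⊓ (W : X.Opens) ⊓ (W : X.Opens) by rw [inf_assoc, inf_idem]]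
    exact sep _ W.2 _ hSW inf_le_right _ W.2 le_rfl
  exact hP.iso ((DBC9.rpushId X).app E) (all ⊤ (by simpa using isCompact_univ) X (𝟙 X) inferInstance
    (Scheme.Hom.opensRange_of_isIso _) E hE)

end Groth.Agent.TwistBC9
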