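import Groth.Agent.Lib.TwistBC9.Tensor

/-!
# Base change for twists by modules which are flat over the base
-/

set_option autoImplicit false
set_option linter.style.haveILetI false
set_option linter.unusedSectionVars false
set_option backward.isDefEq.respectTransparency false
set_option backward.isDefEq.respectTransparency.types false
set_option maxHeartbeats 1600000

universe u

open CategoryTheory CategoryTheory.Limits MonoidalCategory AlgebraicGeometry

attribute [local instance] HasDerivedCategory.standard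

namespace Groth.Agent.TwistBC9

open DMon9 DBC9

attribute [local instance] DBC9.hasRpush

/-- Twists commute with restriction. -/
theorem nonempty_resTen {X T : Scheme.{u}} (i : T ⟶ X) [IsOpenImmersion i] (G : X.Modules) :
    Nonempty (tenF G ⋙ lP i ≅ lP i ⋙ tenF ((Scheme.Modules.restrictFunctor i).obj G)) := by
  obtain ⟨e⟩ := nonempty_lP_single G i 0
  let e' : (dPull i).obj (modM G) ≅ modM ((Scheme.Modules.restrictFunctor i).obj G) := e
  let cM : (tensorRight (modM G) ⋙ dPull i : DM X ⥤ DM T) ≅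
      dPull i ⋙ tensorRight (modM ((Scheme.Modules.restrictFunctor i).obj G)) :=
    NatIso.ofComponents (fun A => (Functor.Monoidal.μIso (dPull i) A (modM G)).symm ≪≫
        (tensorLeft ((dPull i).obj A)).mapIso e')
      (fun {A B} w => by
        change (dPull i).map (w ▷ modM G) ≫ Functor.OplaxMonoidal.δ (dPull i) B _ ≫
            (dPull i).obj B ◁ e'.hom =
          (Functor.OplaxMonoidal.δ (dPull i) A _ ≫ (dPull i).obj A ◁ e'.hom) ≫
            (dPull i).map w ▷ modM ((Scheme.Modules.restrictFunctor i).obj G)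
        rw [← Functor.OplaxMonoidal.δ_natural_left_assoc, Category.assoc]
        exact congrArg (_ ≫ ·) (MonoidalCategory.whisker_exchange _ _).symm)
  exact ⟨cM⟩

section Desc

variable {A A₀ D : Type*} [Category* A] [Category* A₀] [Category* D]
  {Li : A ⥤ A₀} {Pi : A₀ ⥤ A} (adjI : Li ⊣ Pi) [IsIso adjI.counit] {F H : A₀ ⥤ D}

/-- Transformations descend along a functor with fully faithful right adjoint. -/
noncomputable def descNat (κ : Li ⋙ F ⟶ Li ⋙ H) : F ⟶ H where
  app Z := F.map (inv (adjI.counit.app Z)) ≫ κ.app (Pi.obj Z) ≫ H.map (adjI.counit.app Z)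
  naturality Z Z' w := by
    have hn := κ.naturality (Pi.map w)
    have hc := adjI.counit.naturality w
    dsimp at hn hc
    have hc' : w ≫ inv (adjI.counit.app Z') = inv (adjI.counit.app Z) ≫ Li.map (Pi.map w) := by
      rw [IsIso.eq_inv_comp, ← Category.assoc, IsIso.comp_inv_eq, hc]
    simp only [Category.assoc]
    rw [← F.map_comp_assoc, hc', F.map_comp_assoc, reassoc_of% hn, ← H.map_comp, ← H.map_comp, hc]

theorem descNat_app (κ : Li ⋙ F ⟶ Li ⋙ H) (Z : A) : (descNat adjI κ).app (Li.obj Z) = κ.app Z := by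
  have h : inv (adjI.counit.app (Li.obj Z)) = Li.map (adjI.unit.app Z) :=
    IsIso.inv_eq_of_inv_hom_id (adjI.left_triangle_components Z)
  have hn := κ.naturality (adjI.unit.app Z)
  dsimp at hn
  change F.map (inv (adjI.counit.app (Li.obj Z))) ≫ κ.app (Pi.obj (Li.obj Z)) ≫
    H.map (adjI.counit.app (Li.obj Z)) = _
  rw [h]
  dsimp
  rw [reassoc_of% hn, ← H.map_comp, adjI.left_triangle_components, H.map_id, Category.comp_id]

end Desc

section Piece

variable {X X' T W' : Scheme.{u}} {g' : X' ⟶ X} (G : X.Modules) (G' : X'.Modules)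
  (c : (lP g').obj ((DerivedCategory.singleFunctor X.Modules 0).obj G) ⟶
    (DerivedCategory.singleFunctor X'.Modules 0).obj G')
  (i : T ⟶ X) [IsOpenImmersion i] (i' : W' ⟶ X') [IsOpenImmersion i'] (g₁ : W' ⟶ T) (hg₁ : g₁ ≫ i = i' ≫ g')
  {GT : T.Modules} {GT' : W'.Modules} (rI : tenF G ⋙ lP i ≅ lP i ⋙ tenF GT)
  (rI' : tenF G' ⋙ lP i' ≅ lP i' ⋙ tenF GT')

/-- The square of a piece. -/
noncomputable def rho : lP i ⋙ lP g₁ ≅ lP g' ⋙ lP i' :=
  lPComp g₁ i hg₁ ≪≫ (lPComp i' g' rfl).symm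

/-- The comparison on a piece. -/
noncomputable def midNat : lP i ⋙ (tenF GT ⋙ lP g₁) ⟶ lP i ⋙ tenP g₁ GT' where
  app Z := (lP g₁).map (rI.inv.app Z) ≫ (rho i i' g₁ hg₁).hom.app ((tenF G).obj Z) ≫
    (lP i').map ((tenNat g' G G' c).app Z) ≫
    rI'.hom.app ((lP g').obj Z) ≫ (tenF GT').map ((rho i i' g₁ hg₁).inv.app Z)
  naturality Z Z' w := by
    have n1 := rI.inv.naturality w
    have n2 := (rho i i' g₁ hg₁).hom.naturality ((tenF G).map w)
    have n3 := (tenNat g' G G' c).naturality w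
    have n4 := rI'.hom.naturality ((lP g').map w)
    have n5 := (rho i i' g₁ hg₁).inv.naturality w
    simp only [Functor.comp_map, tenP] at n1 n2 n3 n4 n5 ⊢
    simp only [Category.assoc]
    rw [← (tenF GT').map_comp, ← n5, (tenF GT').map_comp, ← reassoc_of% n4, ← (lP i').map_comp_assoc,
      ← n3, (lP i').map_comp_assoc, ← reassoc_of% n2, ← (lP g₁).map_comp_assoc, ← (lP g₁).map_comp_assoc, n1]

theorem isIso_top_midNat (a : ℤ) (hc : IsIso ((DerivedCategory.homologyFunctor X'.Modules 0).map c)) :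
    IsIso ((DerivedCategory.homologyFunctor W'.Modules a).map
      ((midNat G G' c i i' g₁ hg₁ rI rI').app (oneD X a))) := by
  haveI := isIso_top_tenNat g' G G' c a hc
  haveI : IsIso ((DerivedCategory.homologyFunctor W'.Modules a).map
      ((lP i').map ((tenNat g' G G' c).app (oneD X a)))) := by
    refine (NatIso.isIso_map_iff (Functor.isoWhiskerRight (lPRes i')
      (DerivedCategory.homologyFunctor W'.Modules a)) _).2 ?_
    refine (NatIso.isIso_map_iff (hdMapIso (Scheme.Modules.restrictFunctor i') a) _).2 ?_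
    exact inferInstanceAs (IsIso ((Scheme.Modules.restrictFunctor i').map
      ((DerivedCategory.homologyFunctor X'.Modules a).map ((tenNat g' G G' c).app (oneD X a)))))
  simp only [midNat, Functor.map_comp]
  infer_instance

theorem isIso_of_midNat {Y Y' : Scheme.{u}} (fT : T ⟶ Y) (fV : W' ⟶ Y') (γ : Y' ⟶ Y)
    {L : DCoh.D Y ⥤ DCoh.D T} (adj : L ⊣ DCoh.Rpush fT) {L' : DCoh.D Y' ⥤ DCoh.D W'} (adj' : L' ⊣ DCoh.Rpush fV)
    (σ : lP γ ⋙ L' ≅ L ⋙ lP g₁) (E : DCoh.D X)
    (h : IsIso ((bc adj adj' σ.hom).app ((tenF GT).obj ((lP i).obj E)) ≫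
      (DCoh.Rpush fV).map ((midNat G G' c i i' g₁ hg₁ rI rI').app E))) :
    IsIso ((bc adj adj' σ.hom).app ((lP i).obj ((tenF G).obj E)) ≫
      (DCoh.Rpush fV).map ((lPComp g₁ i hg₁).hom.app ((tenF G).obj E) ≫
        (lPComp i' g' rfl).inv.app ((tenF G).obj E) ≫ (lP i').map ((tenNat g' G G' c).app E))) := by
  let z := rI.inv.app E
  let t := rI'.hom.app ((lP g').obj E) ≫ (tenF GT').map ((rho i i' g₁ hg₁).inv.app E)
  let θ₂ := (lPComp g₁ i hg₁).hom.app ((tenF G).obj E) ≫ (lPComp i' g' rfl).inv.app ((tenF G).obj E) ≫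
    (lP i').map ((tenNat g' G G' c).app E)
  have hm : (midNat G G' c i i' g₁ hg₁ rI rI').app E = (lP g₁).map z ≫ θ₂ ≫ t := by
    simp [midNat, z, t, θ₂, rho, Category.assoc]
  have hb := (bc adj adj' σ.hom).naturality z
  simp only [Functor.comp_map] at hb
  rw [hm, Functor.map_comp, ← reassoc_of% hb, Functor.map_comp] at h
  haveI := h
  haveI := IsIso.of_isIso_comp_left ((lP γ).map ((DCoh.Rpush fT).map z))
    ((bc adj adj' σ.hom).app ((lP i).obj ((tenF G).obj E)) ≫
      (DCoh.Rpush fV).map θ₂ ≫ (DCoh.Rpush fV).map t)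
  haveI : IsIso (((bc adj adj' σ.hom).app ((lP i).obj ((tenF G).obj E)) ≫
      (DCoh.Rpush fV).map θ₂) ≫ (DCoh.Rpush fV).map t) := by
    rw [Category.assoc]
    infer_instance
  haveI : IsIso t := by
    dsimp only [t]
    infer_instance
  exact IsIso.of_isIso_comp_right _ ((DCoh.Rpush fV).map t)

end Piece

variable {X S X' S' : Scheme.{u}} {f : X ⟶ S} [QuasiCompact f] [QuasiSeparated f] {g : S' ⟶ S} {f' : X' ⟶ S'}
  {g' : X' ⟶ X} (H : IsPullback g' f' f g) (G : X.Modules) (G' : X'.Modules)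
  (c : (lP g').obj ((DerivedCategory.singleFunctor X.Modules 0).obj G) ⟶
    (DerivedCategory.singleFunctor X'.Modules 0).obj G')

include H in
/-- Base change for twists by modules which are flat over the base. -/
theorem isIso_twist_bc (hG : Coh.IsQCoh G) (hG' : Coh.IsQCoh G') (hflat : FlatMod.IsFlatOver f G)
    (hc : IsIso ((DerivedCategory.homologyFunctor X'.Modules 0).map c))
    {L : DCoh.D S ⥤ DCoh.D X} (adj : L ⊣ DCoh.Rpush f) {L' : DCoh.D S' ⥤ DCoh.D X'} (adj' : L' ⊣ DCoh.Rpush f')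
    (σ : lP g ⋙ L' ≅ L ⋙ lP g') (E : DCoh.D X) (hE : DCoh.IsQCohD E) :
    IsIso ((bc adj adj' σ.hom).app ((tenF G).obj E) ≫
      (DCoh.Rpush f').map ((tenNat g' G G' c).app E)) := by
  refine RHom.isIso_of_cover _ fun y => ?_
  obtain ⟨(U : S.Opens), hU, hyU, -⟩ := TopologicalSpace.Opens.isBasis_iff_nbhd.1 S.isBasis_affineOpens
    (U := ⊤) (x := g y) trivial
  obtain ⟨(U' : S'.Opens), hU', hyU', hle⟩ := TopologicalSpace.Opens.isBasis_iff_nbhd.1 S'.isBasis_affineOpens
    (U := g ⁻¹ᵁ U) (x := y) hyU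
  refine ⟨U', hyU', ?_⟩
  let γ := g.appLE U U' hle
  have hγ : Spec.map γ ≫ hU.fromSpec = hU'.fromSpec ≫ g := hU.SpecMap_appLE_fromSpec g hU' hle
  -- the open pieces
  let j' := hU'.fromSpec
  let W' := pullback f' j'
  let i' : W' ⟶ X' := pullback.fst f' j'
  let fV : W' ⟶ Spec Γ(S', U') := pullback.snd f' j'
  have H₁ : IsPullback fV i' j' f' := (IsPullback.of_hasPullback f' j').flip
  let j := hU.fromSpec
  let T := pullback f j
  let i : T ⟶ X := pullback.fst f j
  let fT : T ⟶ Spec Γ(S, U) := pullback.snd f j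
  have H₂ : IsPullback fT i j f := (IsPullback.of_hasPullback f j).flip
  haveI : QuasiCompact fT := MorphismProperty.of_isPullback H₂.flip ‹QuasiCompact f›
  haveI : QuasiSeparated fT := MorphismProperty.of_isPullback H₂.flip ‹QuasiSeparated f›
  haveI : CompactSpace T := QuasiCompact.compactSpace_of_compactSpace fT
  haveI : QuasiSeparatedSpace T := quasiSeparatedSpace_of_quasiSeparated fT
  let g₁ : W' ⟶ T := pullback.lift (i' ≫ g') (fV ≫ Spec.map γ) (by
    rw [Category.assoc, Category.assoc, H.w, hγ, ← Category.assoc, ← H₁.w, Category.assoc])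
  have hg₁ : g₁ ≫ i = i' ≫ g' := pullback.lift_fst _ _ _
  have H₃ : IsPullback g₁ fV fT (Spec.map γ) := by
    refine IsPullback.of_right ?_ (pullback.lift_snd _ _ _) H₂.flip
    rw [hg₁, hγ]
    exact H₁.flip.paste_horiz H
  haveI : IsAffineHom g₁ := MorphismProperty.of_isPullback H₃.flip (inferInstance : IsAffineHom (Spec.map γ))
  haveI : QuasiSeparatedSpace W' := quasiSeparatedSpace_of_quasiSeparated g₁
  let GT := (Scheme.Modules.restrictFunctor i).obj G
  let GT' := (Scheme.Modules.restrictFunctor i').obj G'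
  obtain ⟨rI⟩ := nonempty_resTen i G
  obtain ⟨rI'⟩ := nonempty_resTen i' G'
  let mid := midNat G G' c i i' g₁ hg₁ rI rI'
  haveI := isIso_counit_openImmersion i
  let θT : tenF GT ⋙ lP g₁ ⟶ tenP g₁ GT' := descNat (adjLP i) mid
  have hθT : ∀ a : ℤ, IsIso ((DerivedCategory.homologyFunctor W'.Modules a).map (θT.app (oneD T a))) := fun a => by
    obtain ⟨o⟩ := nonempty_lP_oneM i a
    refine (NatTrans.isIso_app_iff_of_iso (Functor.whiskerRight θT (DerivedCategory.homologyFunctor W'.Modules a)) o).1 ?_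
    change IsIso ((DerivedCategory.homologyFunctor W'.Modules a).map (θT.app ((lP i).obj (oneD X a))))
    rw [descNat_app]
    exact isIso_top_midNat G G' c i i' g₁ hg₁ rI rI' a hc
  have hqT : Coh.IsQCoh GT := M1.isQCoh_restrict hG i
  have hqT' : Coh.IsQCoh GT' := M1.isQCoh_restrict hG' i'
  have hflT : FlatMod.IsFlatOver fT GT := by
    refine RelT.isFlatOver_of_comp_base fT j ?_
    rw [H₂.w]
    exact RelT.isFlatOver_restrict i f hflat
  have hTw : Twist g₁ Γ(S, U) fT (tenF GT) (tenP g₁ GT') θT :=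
    twist_tensor g₁ GT GT' fT hqT hqT' hflT θT hθT
  -- restriction to the piece
  suffices h : IsIso ((lP j').map ((bc adj adj' σ.hom).app ((tenF G).obj E) ≫ (DCoh.Rpush f').map ((tenNat g' G G' c).app E))) by
    let e := hU'.isoSpec.hom
    have he : e ≫ j' = U'.ι := hU'.isoSpec_hom_fromSpec
    haveI := h
    refine (NatIso.isIso_map_iff ((lPComp e j' he) ≪≫ lPRes U'.ι) _).1 ?_
    exact inferInstanceAs (IsIso ((lP e).map ((lP j').map _)))
  refine isIso_lP_map_twist H₁ adj adj' σ ((tenNat g' G G' c).app E) fun σV => ?_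
  refine isIso_twist_base H₂ hγ hg₁ adj (adjLP fV) σV _ fun σ₁ => ?_
  have hτ := isIso_tau γ fT H₃ (adjLP fT) (adjLP fV) σ₁ (tenF GT) (tenP g₁ GT') θT hTw
    ((lP i).obj E) (isQCohD_lP i hE)
  change IsIso ((bc (adjLP fT) (adjLP fV) σ₁.hom).app ((tenF GT).obj ((lP i).obj E)) ≫
    (DCoh.Rpush fV).map (θT.app ((lP i).obj E))) at hτ
  rw [descNat_app] at hτ
  exact isIso_of_midNat G G' c i i' g₁ hg₁ rI rI' fT fV (Spec.map γ) (adjLP fT) (adjLP fV) σ₁ E hτ

end Groth.Agent.TwistBC9
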