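import Groth.Agent.Lib.CBC10.ModelExists
import Groth.Agent.Lib.ClSub24.Proper
import Groth.Agent.Lib.TensorMod.PullSupport
import Groth.Agent.Lib.DPush9.Coh

/-!
# Models of flat modules with proper support
-/

set_option autoImplicit false
set_option linter.style.haveILetI false
set_option linter.unusedSectionVars false
set_option maxHeartbeats 1000000

universe u

open CategoryTheory CategoryTheory.Limits AlgebraicGeometry TopologicalSpace Opposite

noncomputable section

namespace Groth.Agent.TwistBC9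

open CBC10

variable {A : CommRingCat.{u}} {X : Scheme.{u}} {u : X ⟶ Spec A} {F : X.Modules}

/-- Flatness at a stage. -/
theorem exists_nmodel_flat (hfl : FlatMod.IsFlatOver u F) (N : NModel u F) :
    ∃ N' : NModel u F, FlatMod.IsFlatOver N'.u' N'.F' := by
  letI := (Spec.preimage N.π).hom.toAlgebra
  let D := ConsH13.Over.approxDiagram N.R A
  let c := ConsH13.Over.approxCone N.R A
  have hq : ∀ j, c.π.app j ≫ (approxTo N.R A).app j = N.π := fun j =>
    (approxCone_to N.R A j).trans (Spec.map_preimage N.π)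
  obtain ⟨j₀⟩ : Nonempty (ConsH13.Over.FGSub N.R A)ᵒᵖ := ⟨op (Classical.arbitrary _)⟩
  let N₀ := N.stage (R' := (ConsH13.Over.subFunctor N.R A).obj j₀.unop) ((approxTo N.R A).app j₀) (c.π.app j₀) (hq j₀)
  haveI : LocallyOfFinitePresentation N₀.u' := inferInstance
  haveI : IsLocallyNoetherian N₀.X' := LocallyOfFiniteType.isLocallyNoetherian N₀.u'
  haveI := N₀.coh.1
  let u₀ : N₀.X' ⟶ D.obj j₀ := N₀.u'
  haveI : LocallyOfFinitePresentation u₀ := ‹LocallyOfFinitePresentation N₀.u'›
  haveI : LocallyOfFinitePresentation (u₀ ≫ 𝟙 (D.obj j₀)) := by rw [Category.comp_id]; infer_instance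
  haveI : QuasiCompact (u₀ ≫ 𝟙 (D.obj j₀)) := by rw [Category.comp_id]; exact N₀.qc
  haveI : QuasiSeparated (u₀ ≫ 𝟙 (D.obj j₀)) := by rw [Category.comp_id]; exact N₀.qs
  have hfl₀ : FlatMod.IsFlatOver u ((Scheme.Modules.pullback N₀.q).obj N₀.F') := fun x =>
    SchDom.isFlatOverAt_of_iso _ N₀.iso x (hfl x)
  haveI : CompactSpace (D.obj j₀) := inferInstanceAs (CompactSpace (Spec N₀.R))
  haveI : IsIso (𝟙 c.pt) := IsIso.id _
  haveI : IsIso (𝟙 (D.obj j₀)) := IsIso.id _
  have hid : IsPullback (c.π.app j₀) (𝟙 c.pt) (𝟙 (D.obj j₀)) (c.π.app j₀) :=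
    IsPullback.of_vert_isIso ⟨(Category.comp_id _).trans (Category.id_comp _).symm⟩
  obtain ⟨i, φ, Xi, Yi, fi, gi, pY, pX, hY, hX, hflat⟩ := (Groth.Agent.S4849.result (Y₀ := D.obj j₀)
    D c (ConsH13.Over.isLimitApproxCone N.R A) j₀
    u₀ (𝟙 (D.obj j₀)) N₀.F' (M1.isFP_of_isCoh N₀.coh) u (𝟙 c.pt) (c.π.app j₀) N₀.q
    hid N₀.sq).1 hfl₀
  haveI : IsIso gi := MorphismProperty.of_isPullback (P := MorphismProperty.isomorphisms Scheme.{u}) hY
    (inferInstanceAs (IsIso (𝟙 (D.obj j₀))))
  haveI : IsNoetherianRing ((ConsH13.Over.subFunctor N.R A).obj i.unop) := inferInstance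
  let N₁ := N₀.stage (R' := (ConsH13.Over.subFunctor N.R A).obj i.unop) (D.map φ) (c.π.app i) (c.w φ)
  refine ⟨N₁, fun x => ?_⟩
  have hYw : pY = gi ≫ D.map φ := (Category.comp_id pY).symm.trans hY.w
  have hXi : IsPullback pX (fi ≫ gi) N₀.u' (D.map φ) :=
    hX.of_iso (Iso.refl _) (Iso.refl _) (asIso gi) (Iso.refl _)
      ((Category.comp_id _).trans (Category.id_comp _).symm) (Category.id_comp _).symm
      ((Category.comp_id _).trans (Category.id_comp _).symm) ((Category.comp_id _).trans hYw)
  let gj : Spec N₁.R ⟶ Yi := (inv gi :)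
  haveI : IsIso gj := inferInstanceAs (IsIso (inv gi))
  have H : IsPullback hXi.isoPullback.inv N₁.u' fi gj := IsPullback.of_horiz_isIso ⟨by
    show hXi.isoPullback.inv ≫ fi = pullback.snd N₀.u' (D.map φ) ≫ inv gi
    rw [← cancel_mono gi, Category.assoc, Category.assoc, IsIso.inv_hom_id, Category.comp_id]
    exact hXi.isoPullback_inv_snd⟩
  haveI : Coh.IsQCoh ((Scheme.Modules.pullback pX).obj N₀.F') := M1.isQCoh_pullback pX N₀.coh.1
  refine SchDom.isFlatOverAt_of_iso _ ?_ x (FlatH4.isFlatOverAt_baseChange H _ x (hflat _))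
  exact (Scheme.Modules.pullbackComp _ pX).app N₀.F' ≪≫
    (Scheme.Modules.pullbackCongr hXi.isoPullback_inv_fst).app N₀.F'

/-- Flatness is kept at later stages. -/
theorem isFlatOver_stage (N : NModel u F) (hN : FlatMod.IsFlatOver N.u' N.F') {R' : CommRingCat.{u}}
    [IsNoetherianRing R'] (t : Spec R' ⟶ Spec N.R) (π' : Spec A ⟶ Spec R') (e : π' ≫ t = N.π) :
    FlatMod.IsFlatOver (N.stage t π' e).u' (N.stage t π' e).F' := fun x => by
  haveI := N.coh.1
  exact FlatH4.isFlatOverAt_baseChange (IsPullback.of_hasPullback N.u' t) _ x (hN _)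

/-- A closed subscheme on a closed subset which is proper over the base is proper. -/
theorem isProper_of_isProperOver {Y Z S : Scheme.{u}} (f : Y ⟶ S) [LocallyOfFiniteType f] (i : Z ⟶ Y)
    [IsClosedImmersion i] (h : ClSub.IsProperOver f (Set.range i)) : IsProper (i ≫ f) := by
  have h1 := ClSub24.isProperOver_preimage (i ≫ f) f i rfl h
  rw [Set.preimage_range] at h1
  obtain ⟨T, s, hs, hr, hp⟩ := (ClSub24.isProperOver_iff_exists (i ≫ f) _).1 h1
  haveI : UniversallyClosed s := inferInstance
  exact ClSub24.isProper_of_jointly (fun _ : Unit => s) ((Set.iUnion_const _).trans hr) (i ≫ f) fun _ => hp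

/-- A model with a closed subscheme on the support. -/
structure SuppData (N : NModel u F) where
  Z : Scheme.{u}
  z : Z ⟶ N.X'
  closed : IsClosedImmersion z
  range : Set.range z = CohB1.support N.F'

attribute [instance] SuppData.closed

/-- The reduced subscheme on the support. -/
def suppData (N : NModel u F) : SuppData N :=
  haveI : IsLocallyNoetherian N.X' := LocallyOfFiniteType.isLocallyNoetherian N.u'
  haveI := N.coh.1
  { Z := _
    z := (Scheme.IdealSheafData.vanishingIdeal ⟨CohB1.support N.F',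
      M1.isClosed_support (M1.isFP_isFT (M1.isFP_of_isCoh N.coh))⟩).subschemeι
    closed := inferInstance
    range := by
      rw [Scheme.IdealSheafData.range_subschemeι, Scheme.IdealSheafData.coe_support_vanishingIdeal]
      rfl }

/-- The pulled back subscheme at a stage. -/
def SuppData.stage {N : NModel u F} (d : SuppData N) {R' : CommRingCat.{u}} [IsNoetherianRing R']
    (t : Spec R' ⟶ Spec N.R) (π' : Spec A ⟶ Spec R') (e : π' ≫ t = N.π) : SuppData (N.stage t π' e) where
  Z := pullback (pullback.fst N.u' t) d.z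
  z := pullback.fst (pullback.fst N.u' t) d.z
  closed := MorphismProperty.pullback_fst _ _ d.closed
  range := by
    haveI : IsLocallyNoetherian N.X' := LocallyOfFiniteType.isLocallyNoetherian N.u'
    haveI := N.coh.1
    refine Eq.trans (Scheme.Pullback.range_fst (pullback.fst N.u' t) d.z) ?_
    rw [d.range]
    exact (M2.support_pullback (pullback.fst N.u' t) N.coh.1
      (M1.isFP_isFT (M1.isFP_of_isCoh N.coh))).symm

theorem SuppData.stage_isPullback {N : NModel u F} (d : SuppData N) {R' : CommRingCat.{u}} [IsNoetherianRing R']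
    (t : Spec R' ⟶ Spec N.R) (π' : Spec A ⟶ Spec R') (e : π' ≫ t = N.π) :
    IsPullback (pullback.snd (pullback.fst N.u' t) d.z) ((d.stage t π' e).z ≫ (N.stage t π' e).u')
      (d.z ≫ N.u') t :=
  (IsPullback.of_hasPullback (pullback.fst N.u' t) d.z).flip.paste_vert (IsPullback.of_hasPullback N.u' t)

/-- Proper support at a stage. -/
theorem exists_nmodel_support [LocallyOfFiniteType u] (hsupp : ClSub.IsProperOver u (CohB1.support F))
    (N : NModel u F) (hN : FlatMod.IsFlatOver N.u' N.F') :
    ∃ N' : NModel u F, FlatMod.IsFlatOver N'.u' N'.F' ∧ ClSub.IsProperOver N'.u' (CohB1.support N'.F') := by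
  -- the limit of the family of closed subschemes
  have hlim : ∀ (M : NModel u F) (d : SuppData M), ∃ (pz : pullback M.q d.z ⟶ d.Z) (p : pullback M.q d.z ⟶ X),
      IsPullback pz (p ≫ u) (d.z ≫ M.u') M.π ∧ IsProper (p ≫ u) := by
    intro M d
    haveI : IsLocallyNoetherian M.X' := LocallyOfFiniteType.isLocallyNoetherian M.u'
    haveI := M.coh.1
    refine ⟨pullback.snd M.q d.z, pullback.fst M.q d.z,
      (IsPullback.of_hasPullback M.q d.z).flip.paste_vert M.sq, ?_⟩
    have hr : Set.range (pullback.fst M.q d.z) = CohB1.support F := by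
      refine Eq.trans (Scheme.Pullback.range_fst M.q d.z) ?_
      rw [d.range, ← M2.support_pullback M.q M.coh.1 (M1.isFP_isFT (M1.isFP_of_isCoh M.coh))]
      exact DPush9.support_iso M.iso.symm
    haveI : IsClosedImmersion (pullback.fst M.q d.z) := MorphismProperty.pullback_fst _ _ d.closed
    exact isProper_of_isProperOver u _ (hr ▸ hsupp)
  -- separatedness
  obtain ⟨pz, p, hP, hp⟩ := hlim N (suppData N)
  let d := suppData N
  haveI : QuasiCompact (d.z ≫ N.u') := inferInstance
  haveI : QuasiSeparated (d.z ≫ N.u') := inferInstance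
  letI := (Spec.preimage N.π).hom.toAlgebra
  have hq : ∀ j, (ConsH13.Over.approxCone N.R A).π.app j ≫ (approxTo N.R A).app j = N.π := fun j =>
    (approxCone_to N.R A j).trans (Spec.map_preimage N.π)
  haveI : @IsSeparated _ (ConsH13.Over.approxCone N.R A).pt (p ≫ u) := hp.toIsSeparated
  obtain ⟨j, hj⟩ := LimH13.exists_isSeparated (t := approxTo N.R A) (f := d.z ≫ N.u')
    (ConsH13.Over.isLimitApproxCone N.R A) hq (g := p ≫ u) hP
  let M := N.stage (R' := (ConsH13.Over.subFunctor N.R A).obj j.unop) ((approxTo N.R A).app j)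
    ((ConsH13.Over.approxCone N.R A).π.app j) (hq j)
  let e : SuppData M := d.stage _ _ _
  have hM : FlatMod.IsFlatOver M.u' M.F' := isFlatOver_stage N hN _ _ _
  haveI : IsSeparated (e.z ≫ M.u') := by
    haveI := hj
    have H' : IsPullback (pullback.snd (pullback.fst N.u' ((approxTo N.R A).app j)) d.z) (e.z ≫ M.u')
        (d.z ≫ N.u') ((approxTo N.R A).app j) :=
      d.stage_isPullback (R' := (ConsH13.Over.subFunctor N.R A).obj j.unop) _ _ _
    haveI : IsIso H'.isoPullback.hom := inferInstance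
    have h' : H'.isoPullback.hom ≫ pullback.snd (d.z ≫ N.u') ((approxTo N.R A).app j) = e.z ≫ M.u' :=
      H'.isoPullback_hom_snd
    rw [← h']
    exact @MorphismProperty.comp_mem _ _ @IsSeparated _ _ _ _ _ _ inferInstance hj
  -- properness
  obtain ⟨pz', p', hP', hp'⟩ := hlim M e
  letI := (Spec.preimage M.π).hom.toAlgebra
  have hq' : ∀ k, (ConsH13.Over.approxCone M.R A).π.app k ≫ (approxTo M.R A).app k = M.π := fun k =>
    (approxCone_to M.R A k).trans (Spec.map_preimage M.π)
  haveI : CompactSpace e.Z := QuasiCompact.compactSpace_of_compactSpace (e.z ≫ M.u')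
  haveI : QuasiSeparatedSpace e.Z := quasiSeparatedSpace_of_quasiSeparated (e.z ≫ M.u')
  let r' : pullback M.q e.z ⟶ (ConsH13.Over.approxCone M.R A).pt := p' ≫ u
  haveI : IsProper r' := hp'
  obtain ⟨k, hk⟩ := LimH13.exists_isProper (e.z ≫ M.u') (approxTo M.R A) (r := r')
    (ConsH13.Over.isLimitApproxCone M.R A) hq' hP'
  let M' := M.stage (R' := (ConsH13.Over.subFunctor M.R A).obj k.unop) ((approxTo M.R A).app k)
    ((ConsH13.Over.approxCone M.R A).π.app k) (hq' k)
  let e' : SuppData M' := e.stage _ _ _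
  refine ⟨M', isFlatOver_stage M hM _ _ _, (ClSub24.isProperOver_iff_exists M'.u' _).2
    ⟨e'.Z, e'.z, e'.closed, e'.range, ?_⟩⟩
  haveI := hk
  have H' : IsPullback (pullback.snd (pullback.fst M.u' ((approxTo M.R A).app k)) e.z) (e'.z ≫ M'.u')
      (e.z ≫ M.u') ((approxTo M.R A).app k) :=
    e.stage_isPullback (R' := (ConsH13.Over.subFunctor M.R A).obj k.unop) _ _ _
  haveI : IsIso H'.isoPullback.hom := inferInstance
  have h' : H'.isoPullback.hom ≫ pullback.snd (e.z ≫ M.u') ((approxTo M.R A).app k) = e'.z ≫ M'.u' :=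
    H'.isoPullback_hom_snd
  rw [← h']
  exact @MorphismProperty.comp_mem _ _ @IsProper _ _ _ _ _ _ inferInstance hk

/-- A noetherian model with flat module and proper support. -/
theorem exists_nmodel_flat_support [LocallyOfFinitePresentation u] [QuasiCompact u] [QuasiSeparated u]
    [hF : Coh.IsQCoh F] (hfp : CohB1.IsFP F) (hfl : FlatMod.IsFlatOver u F)
    (hsupp : ClSub.IsProperOver u (CohB1.support F)) :
    ∃ N : NModel u F, FlatMod.IsFlatOver N.u' N.F' ∧ ClSub.IsProperOver N.u' (CohB1.support N.F') := by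
  obtain ⟨R, hR, π, X', u', q, F', i1, i2, sq, hF', ⟨e⟩⟩ := ConsH13.exists_noetherian_model_mod A u F hfp
  haveI : IsLocallyNoetherian X' := LocallyOfFiniteType.isLocallyNoetherian u'
  obtain ⟨N, hN⟩ := exists_nmodel_flat hfl ⟨R, hR, π, X', u', q, F', i1, i2, inferInstance, sq, hF', e⟩
  exact exists_nmodel_support hsupp N hN

end Groth.Agent.TwistBC9
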