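import Groth.Agent.Lib.TwistBC9.Perfect
import Groth.Agent.Lib.TwistBC9.PCTest
import Groth.Agent.Lib.PCoh.Criteria
import Groth.Agent.Lib.DQC.Tensor

/-!
# Pseudo-coherent direct images of twists by complexes
-/

set_option autoImplicit false
set_option linter.style.haveILetI false
set_option linter.unusedSectionVars false
set_option backward.isDefEq.respectTransparency false
set_option backward.isDefEq.respectTransparency.types false
set_option maxHeartbeats 800000

universe u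

open CategoryTheory CategoryTheory.Limits MonoidalCategory AlgebraicGeometry Pretriangulated

attribute [local instance] HasDerivedCategory.standard

namespace Groth.Agent.TwistBC9

open DMon9 KFlat KFlat.Sch

attribute [local instance] DBC9.hasRpush

variable {X S : Scheme.{u}}

/-- The derived tensor product with a complex is the monoidal one. -/
theorem nonempty_ltensor_iso (G : CochainComplex X.Modules ℤ) [DCoh.HasLTensorCx G] (E : DCoh.D X) :
    Nonempty ((DCoh.LTensorCx G).obj E ≅ (((E : DM X) ⊗ (DCoh.toD X G : DM X) : DM X) : DCoh.D X)) := by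
  obtain ⟨G', q, hG', hq⟩ := RHom.exists_kflat_res G
  haveI := hq
  haveI := KFlat.Sch.hasLTensorCx G'
  haveI := RHom.isIso_ltMap q
  let K : KF X := ⟨G', hG'⟩
  haveI : DCoh.HasLTensorCx K.obj := KFlat.Sch.hasLTensorCx G'
  haveI : IsIso (DerivedCategory.Q.map q) := (DerivedCategory.isIso_Q_map_iff_quasiIso (C := X.Modules) _).2 hq
  let E₁ : DM X := E
  let Z₁ : DM X := DCoh.toD X G
  let e : (qM X).obj K ≅ Z₁ := (asIso (DerivedCategory.Q.map q) :)
  let w : (tR K).obj E ≅ ((E₁ ⊗ Z₁ : DM X) : DCoh.D X) := whiskerLeftIso E₁ e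
  exact ⟨(asIso (RHom.ltMap q)).symm.app E ≪≫ (theta K).symm.app E ≪≫ w⟩

variable (hN : ∀ {R : CommRingCat.{u}} [IsNoetherianRing R] {X' : Scheme.{u}} (f : X' ⟶ Spec R)
  [LocallyOfFiniteType f] [QuasiCompact f] (E : DCoh.D X') (_ : DCoh.IsPerfect E) (G : X'.Modules) (_ : Coh.IsCoh G)
  (_ : FlatMod.IsFlatOver f G) (_ : ClSub.IsProperOver f (CohB1.support G)),
  DCoh.IsPerfect ((DCoh.Rpush f).obj ((tenF G).obj E)))

include hN in
/-- Twists of perfect objects by bounded above complexes. -/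
theorem pc_twist_perfect {A : CommRingCat.{u}} (u : X ⟶ Spec A) [LocallyOfFinitePresentation u]
    [QuasiCompact u] [QuasiSeparated u] (G : CochainComplex X.Modules ℤ) [DCoh.HasLTensorCx G] (b : ℤ)
    (hb : ∀ i, b < i → IsZero (G.X i)) (hfp : ∀ i, CohB1.IsFP (G.X i))
    (hflat : ∀ i, FlatMod.IsFlatOver u (G.X i)) (hsupp : ∀ i, ClSub.IsProperOver u (CohB1.support (G.X i)))
    (P : DCoh.D X) (hP : DCoh.IsPerfect P) (m : ℤ) :
    DCoh.IsPseudoCoherentD m ((DCoh.Rpush u).obj ((DCoh.LTensorCx G).obj P)) := by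
  haveI : CompactSpace X := QuasiCompact.compactSpace_of_compactSpace u
  haveI : QuasiSeparatedSpace X := quasiSeparatedSpace_of_quasiSeparated u
  obtain ⟨e, he⟩ := DPerf.exists_isLE_of_pseudoCoherent (DGen9.isPseudoCoherentD_of_isPerfect hP 0)
  let A0 := DerivedCategory.Q.objPreimage P
  let eA : DCoh.toD X A0 ≅ P := DerivedCategory.Q.objObjPreimageIso P
  haveI : (DCoh.toD X A0).IsLE e :=
    @Triangulated.TStructure.isLE_of_iso _ _ _ _ _ _ _ _ _ _ eA.symm _ he
  haveI := KFlat.Sch.hasLTensorCx A0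
  obtain ⟨Ek, _, hEk, ⟨eEk⟩, -⟩ := exists_ltensor_model A0 e
  haveI := hEk
  let eP : (qM X).obj Ek ≅ (P : DM X) := eEk ≪≫ eA
  obtain ⟨c⟩ := nonempty_commIso Ek
  -- tensoring the complex with the K-flat model
  have swap : ∀ Z : DCoh.D X, Nonempty ((((P : DM X) ⊗ (Z : DM X) : DM X) : DCoh.D X) ≅ (DCoh.LTensorCx Ek.obj).obj Z) :=
    fun Z => by
      let w : (((P : DM X) ⊗ (Z : DM X) : DM X) : DCoh.D X) ≅ (tL Ek).obj Z :=
        whiskerRightIso eP.symm (Z : DM X)
      exact ⟨w ≪≫ c.app Z ≪≫ (theta Ek).app Z⟩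
  obtain ⟨a⟩ := nonempty_ltensor_iso G P
  obtain ⟨a'⟩ := swap (DCoh.toD X G)
  refine DPerf.isPseudoCoherentD_of_approx (DPerf.Approx.of_iso ((DCoh.Rpush u).mapIso (a ≪≫ a')).symm ?_)
  obtain ⟨N, hN'⟩ := DPush.exists_bound u
  obtain ⟨_, _⟩ := DPush.exists_commShift_isTriangulated u
  refine PCoh.termwise_induction
    (fun Z => DPerf.Approx (Set.Ici m) ((DCoh.Rpush u).obj ((DCoh.LTensorCx Ek.obj).obj Z))) G (m - e - N) b hb
    (fun T hT h₁ h₃ => ?_) (fun K hK hK' => ?_) (fun i M _ _ ⟨eM⟩ => ?_)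
  · obtain ⟨T', hT', ⟨a₁⟩, ⟨a₂⟩, ⟨a₃⟩⟩ := exists_triangle_LT Ek T hT
    exact (DPerf.approx_Ici₂ m _ ((DCoh.Rpush u).map_distinguished _ hT')
      (h₁.of_iso ((DCoh.Rpush u).mapIso a₁).symm) (h₃.of_iso ((DCoh.Rpush u).mapIso a₃).symm)).of_iso
        ((DCoh.Rpush u).mapIso a₂)
  · haveI : K.IsStrictlyLE (m - e - N - 1) :=
      (CochainComplex.isStrictlyLE_iff _ _).2 fun i hi => hK i (by omega)
    haveI : (DCoh.toD X K).IsLE (m - e - N - 1) :=
      (DerivedCategory.isLE_Q_obj_iff K _).2 inferInstance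
    have hKq : DCoh.IsQCohD (DCoh.toD X K) := DQC.isQCohD_toD fun i => by
      by_cases hi : m - e - N ≤ i
      · exact DPush.isQCoh_of_isZero (hK i hi)
      · exact (SheafOfModules.isQuasicoherent X.ringCatSheaf).prop_of_iso (hK' i (by omega)).some.symm (M1.isFP_isQCoh (hfp i))
    refine DPerf.approx_of_isZero_HD fun i hi => hN' _ ?_ (m - e - N - 1 + e)
      (RHom.isLE_LT Ek.obj e (DCoh.toD X K) (m - e - N - 1)) i (by have : m ≤ i := hi; omega)
    obtain ⟨w⟩ := swap (DCoh.toD X K)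
    exact DQC.isQCohD_of_iso w (isQCohD_tensor (A := (P : DM X)) (DGen9.isQCohD_of_isPerfect hP) hKq)
  · obtain ⟨w⟩ := swap ((DerivedCategory.singleFunctor X.Modules i).obj M)
    refine (DPerf.isPerfect_iff_approx.1 ?_).mono_set (Set.subset_univ _)
    obtain ⟨n⟩ := nonempty_tenF_iso eM P
    have hp := isPerfect_twist hN u (G.X i) (hfp i) (hflat i) (hsupp i) P hP
    obtain ⟨s⟩ := nonempty_LT_shift Ek ((DerivedCategory.singleFunctor X.Modules 0).obj M) (-i)
    obtain ⟨w₀⟩ := swap ((DerivedCategory.singleFunctor X.Modules 0).obj M)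
    let sh : ((DerivedCategory.singleFunctor X.Modules 0).obj M)⟦-i⟧ ≅ (DerivedCategory.singleFunctor X.Modules i).obj M :=
      ((DerivedCategory.singleFunctors X.Modules).shiftIso (-i) i 0 (by omega)).app M
    let v : (DCoh.LTensorCx Ek.obj).obj ((DerivedCategory.singleFunctor X.Modules i).obj M) ≅
        ((tenF (G.X i)).obj P)⟦-i⟧ :=
      (DCoh.LTensorCx Ek.obj).mapIso sh.symm ≪≫ s ≪≫ (shiftFunctor _ (-i)).mapIso (w₀.symm ≪≫ n)
    exact DGen9.isPerfect_of_iso (((DCoh.Rpush u).mapIso v ≪≫ ((DCoh.Rpush u).commShiftIso (-i)).app _).symm)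
      (DGen9.isPerfect_shiftD hp (-i))

include hN in
/-- Pseudo-coherent direct images of twists by complexes. -/
theorem pc_twist (f : X ⟶ S) [LocallyOfFinitePresentation f] [QuasiCompact f] [QuasiSeparated f]
    (G : CochainComplex X.Modules ℤ) [DCoh.HasLTensorCx G] (b : ℤ)
    (hb : ∀ i, b < i → IsZero (G.X i)) (hfp : ∀ i, CohB1.IsFP (G.X i))
    (hflat : ∀ i, FlatMod.IsFlatOver f (G.X i)) (hsupp : ∀ i, ClSub.IsProperOver f (CohB1.support (G.X i)))
    (E : DCoh.D X) (hE : ∀ m, DCoh.IsPseudoCoherentD m E) (m : ℤ) :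
    DCoh.IsPseudoCoherentD m ((DCoh.Rpush f).obj ((DCoh.LTensorCx G).obj E)) := by
  refine PerfPush9.pc_rpush_of_affine f _ m fun V hV => ?_
  let j := (f ⁻¹ᵁ V).ι
  let u := f ∣_ V ≫ hV.isoSpec.hom
  let G₁ := (DPerf.resX j).obj G
  haveI := KFlat.Sch.hasLTensorCx G₁
  obtain ⟨a⟩ := nonempty_ltensor_iso G E
  obtain ⟨a₁⟩ := nonempty_ltensor_iso G₁ ((DPerf.resD j).obj E)
  let E₁ : DM X := E
  let Z₁ : DM X := DCoh.toD X G
  let r : (DPerf.resD j).obj ((DCoh.LTensorCx G).obj E) ≅ (DCoh.LTensorCx G₁).obj ((DPerf.resD j).obj E) :=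
    (DPerf.resD j).mapIso a ≪≫ ((lPRes j).app _).symm ≪≫
      ((Functor.Monoidal.μIso (dPull j) E₁ Z₁).symm :) ≪≫
      (tensorIso (C := DM _) ((lPRes j).app E) ((lPRes j).app (DCoh.toD X G) ≪≫ (DPerf.resFac j).app G) :) ≪≫ a₁.symm
  refine DPerf.isPseudoCoherentD_of_approx ((DPerf.approx_of_isPseudoCoherentD ?_).of_iso ((DCoh.Rpush u).mapIso r).symm)
  have hq : ∀ i, Coh.IsQCoh (G.X i) := fun i => M1.isFP_isQCoh (hfp i)
  have hz : ∀ i, b < i → IsZero (G₁.X i) := fun i hi => (Scheme.Modules.restrictFunctor j).map_isZero (hb i hi)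
  have hs : ∀ i, ClSub.IsProperOver u (CohB1.support (G₁.X i)) := fun i => by
    have H : IsPullback j u f hV.fromSpec :=
      ((isPullback_morphismRestrict f V).of_iso (Iso.refl _) hV.isoSpec (Iso.refl _) (Iso.refl _)
        (by simp [u]) (by simp [j]) (by rw [← IsAffineOpen.isoSpec_hom_fromSpec hV]; simp) (by simp [j])).flip
    have hs := ClSub24.isProperOver_preimage_of_isPullback f H (hsupp i)
    rw [← M2.support_pullback _ (hq i) (M1.isFP_isFT (hfp i))] at hs
    change ClSub.IsProperOver u (CohB1.support ((Scheme.Modules.restrictFunctor j).obj (G.X i)))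
    rwa [DPush9.support_iso ((Scheme.Modules.restrictFunctorIsoPullback j).app (G.X i))]
  haveI : CompactSpace (f ⁻¹ᵁ V : Scheme.{u}) := QuasiCompact.compactSpace_of_compactSpace u
  haveI : QuasiSeparatedSpace (f ⁻¹ᵁ V : Scheme.{u}) := quasiSeparatedSpace_of_quasiSeparated u
  haveI : G₁.IsStrictlyLE b := (CochainComplex.isStrictlyLE_iff _ _).2 hz
  haveI : (DCoh.toD _ G₁).IsLE b := (DerivedCategory.isLE_Q_obj_iff G₁ b).2 inferInstance
  exact pc_rpush_ltensor u G₁ (DQC.isQCohD_toD fun i => M1.isFP_isQCoh (M1.isFP_restrict (hfp i) j)) b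
    (fun P hP n => pc_twist_perfect hN u G₁ b hz (fun i => M1.isFP_restrict (hfp i) j)
      (fun i => CBC10.isFlatOver_resU (hq i) (hflat i) hV) hs P hP n)
    _ (fun n => PerfPush9.pc_res j (hE n)) m

end Groth.Agent.TwistBC9
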