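import Groth.Agent.Lib.TwistBC9.Apps
import Groth.Agent.Lib.TwistBC9.Model
import Groth.Agent.Lib.TwistBC9.LTTri
import Groth.Agent.Lib.DGen9.PerfMain
import Groth.Agent.Lib.RHom.Trans

/-!
# Perfect direct images of twists
-/

set_option autoImplicit false
set_option linter.style.haveILetI false
set_option linter.unusedSectionVars false
set_option backward.isDefEq.respectTransparency false
set_option backward.isDefEq.respectTransparency.types false
set_option maxHeartbeats 800000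

universe u

open CategoryTheory CategoryTheory.Limits MonoidalCategory AlgebraicGeometry Pretriangulated

attribute [local instance] HasDerivedCategory.standard

namespace Groth.Agent.TwistBC9

open DMon9 KFlat KFlat.Sch

attribute [local instance] DBC9.hasRpush

variable {X S : Scheme.{u}}

theorem nonempty_tenF_iso {G G' : X.Modules} (e : G ≅ G') (E : DCoh.D X) :
    Nonempty ((tenF G).obj E ≅ (tenF G').obj E) := by
  let E₁ : DM X := E
  let e' : modM G ≅ modM G' := (DerivedCategory.singleFunctor X.Modules 0).mapIso e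
  exact ⟨((tensorLeft E₁).mapIso e' :)⟩

/-- Restrictions of twists. -/
theorem nonempty_res_tenF {T : Scheme.{u}} (i : T ⟶ X) [IsOpenImmersion i] (G : X.Modules) (E : DCoh.D X) :
    Nonempty ((DPerf.resD i).obj ((tenF G).obj E) ≅
      (tenF ((Scheme.Modules.restrictFunctor i).obj G)).obj ((DPerf.resD i).obj E)) := by
  obtain ⟨r⟩ := nonempty_resTen i G
  exact ⟨((lPRes i).app _).symm ≪≫ r.app E ≪≫
    (tenF ((Scheme.Modules.restrictFunctor i).obj G)).mapIso ((lPRes i).app E)⟩

/-- The twisted direct image is a class closed under the thick operations. -/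
theorem thickClass_twist (f : X ⟶ S) (G : X.Modules) :
    DGen9.ThickClass fun E : DCoh.D X => DCoh.IsPerfect ((DCoh.Rpush f).obj ((tenF G).obj E)) := by
  obtain ⟨K, ⟨e⟩⟩ := exists_qM ((DerivedCategory.singleFunctor X.Modules 0).obj G)
  haveI := KFlat.Sch.hasLTensorCx K.obj
  let e' : (qM X).obj K ≅ modM G := e
  let ie : tenF G ≅ DCoh.LTensorCx K.obj :=
    (((MonoidalCategory.tensoringRight (DM X)).mapIso e').symm :) ≪≫ theta K
  have h := PerfPush9.thickClass f
  exact {
    iso := fun e₁ h₁ => h.iso ((tenF G).mapIso e₁) h₁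
    zero := h.iso ((tenF G).map_isZero (isZero_zero _)).isoZero.symm h.zero
    ext := fun T hT h₁ h₃ => by
      obtain ⟨T', hT', ⟨a₁⟩, ⟨a₂⟩, ⟨a₃⟩⟩ := exists_triangle_LT K T hT
      exact h.iso (a₂ ≪≫ (ie.app _).symm) (h.ext T' hT' (h.iso (ie.app _ ≪≫ a₁.symm) h₁)
        (h.iso (ie.app _ ≪≫ a₃.symm) h₃))
    shift := fun Z n hZ => by
      obtain ⟨a⟩ := nonempty_LT_shift K Z n
      exact h.iso (a.symm ≪≫ (ie.app (Z⟦n⟧)).symm) (h.shift _ n (h.iso (ie.app Z) hZ))
    retract := fun i r hir hK => h.retract ((tenF G).map i) ((tenF G).map r)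
      (by rw [← Functor.map_comp, hir, CategoryTheory.Functor.map_id]) hK }

variable (hN : ∀ {R : CommRingCat.{u}} [IsNoetherianRing R] {X' : Scheme.{u}} (f : X' ⟶ Spec R)
  [LocallyOfFiniteType f] [QuasiCompact f] (E : DCoh.D X') (_ : DCoh.IsPerfect E) (G : X'.Modules) (_ : Coh.IsCoh G)
  (_ : FlatMod.IsFlatOver f G) (_ : ClSub.IsProperOver f (CohB1.support G)),
  DCoh.IsPerfect ((DCoh.Rpush f).obj ((tenF G).obj E)))

include hN in
/-- Perfection of the twisted direct image over an affine base. -/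
theorem isPerfect_twist_affine {A : CommRingCat.{u}} (u : X ⟶ Spec A) [LocallyOfFinitePresentation u]
    [QuasiCompact u] [QuasiSeparated u] (G : X.Modules) (hG : CohB1.IsFP G) (hflat : FlatMod.IsFlatOver u G)
    (hsupp : ClSub.IsProperOver u (CohB1.support G)) (E : DCoh.D X) (hE : DCoh.IsPerfect E) :
    DCoh.IsPerfect ((DCoh.Rpush u).obj ((tenF G).obj E)) := by
  haveI : Coh.IsQCoh G := M1.isFP_isQCoh hG
  obtain ⟨N, hNfl, hNs⟩ := exists_nmodel_flat_support hG hflat hsupp
  haveI := N.coh.1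
  haveI : IsAffineHom N.q := MorphismProperty.of_isPullback N.sq.flip (inferInstance : IsAffineHom N.π)
  haveI : CompactSpace X := QuasiCompact.compactSpace_of_compactSpace u
  haveI : QuasiSeparatedSpace X := quasiSeparatedSpace_of_quasiSeparated u
  haveI : CompactSpace N.X' := QuasiCompact.compactSpace_of_compactSpace N.u'
  haveI : QuasiSeparatedSpace N.X' := quasiSeparatedSpace_of_quasiSeparated N.u'
  refine PerfPush9.mem_of_pullback N.q (thickClass_twist u G) (fun E' hE' => ?_) hE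
  obtain ⟨a⟩ := nonempty_tenF_iso N.iso ((lP N.q).obj E')
  obtain ⟨e⟩ := nonempty_bc_tenF N.sq N.F' N.coh.1 hNfl E' (DGen9.isQCohD_of_isPerfect hE')
  exact DGen9.isPerfect_of_iso (e ≪≫ ((DCoh.Rpush u).mapIso a).symm)
    (PerfPush9.isPerfect_lP N.π (hN N.u' E' hE' N.F' N.coh hNfl hNs))

include hN in
/-- Perfection of the twisted direct image. -/
theorem isPerfect_twist (f : X ⟶ S) [LocallyOfFinitePresentation f] [QuasiCompact f] [QuasiSeparated f]
    (G : X.Modules) (hG : CohB1.IsFP G) (hflat : FlatMod.IsFlatOver f G)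
    (hsupp : ClSub.IsProperOver f (CohB1.support G)) (E : DCoh.D X) (hE : DCoh.IsPerfect E) :
    DCoh.IsPerfect ((DCoh.Rpush f).obj ((tenF G).obj E)) := by
  refine PerfPush9.isPerfect_rpush_of_affine f _ fun V hV => ?_
  obtain ⟨r⟩ := nonempty_res_tenF (f ⁻¹ᵁ V).ι G E
  refine DGen9.isPerfect_of_iso ((DCoh.Rpush (f ∣_ V ≫ hV.isoSpec.hom)).mapIso r).symm ?_
  have hq : Coh.IsQCoh G := M1.isFP_isQCoh hG
  refine isPerfect_twist_affine hN (f ∣_ V ≫ hV.isoSpec.hom) _ (M1.isFP_restrict hG _) ?_ ?_ _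
    (DGen9.isPerfect_resD _ hE)
  · exact CBC10.isFlatOver_resU hq hflat hV
  · have H : IsPullback (f ⁻¹ᵁ V).ι (f ∣_ V ≫ hV.isoSpec.hom) f hV.fromSpec :=
      ((isPullback_morphismRestrict f V).of_iso (Iso.refl _) hV.isoSpec (Iso.refl _) (Iso.refl _)
        (by simp) (by simp) (by rw [← IsAffineOpen.isoSpec_hom_fromSpec hV]; simp) (by simp)).flip
    have hs := ClSub24.isProperOver_preimage_of_isPullback f H hsupp
    rw [← M2.support_pullback _ hq (M1.isFP_isFT hG)] at hs
    rwa [DPush9.support_iso ((Scheme.Modules.restrictFunctorIsoPullback (f ⁻¹ᵁ V).ι).app G)]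

/-- `RHom` out of a perfect complex into a module is a twist by the dual. -/
theorem exists_rhom_iso (E : CochainComplex X.Modules ℤ) (hE : DCoh.IsPerfect (DCoh.toD X E))
    [DCoh.HasLTensorCx E] [DCoh.HasRSheafHom E] (G : X.Modules) :
    ∃ E' : DCoh.D X, DCoh.IsPerfect E' ∧
      Nonempty ((DCoh.RSheafHom E).obj (DCoh.inD X G) ≅ (tenF G).obj E') := by
  obtain ⟨P, q, hP, hq⟩ := RHom.exists_kflat_res E
  haveI := hq
  haveI := KFlat.Sch.hasLTensorCx P
  haveI := RHom.hasRSheafHom P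
  haveI := RHom.isIso_ltMap q
  let iE : DCoh.RSheafHom E ≅ DCoh.RSheafHom P :=
    (DCoh.RSheafHomAdj E).rightAdjointUniq ((DCoh.RSheafHomAdj P).ofNatIsoLeft (asIso (RHom.ltMap q)))
  have hPp : DCoh.IsPerfect (DCoh.toD X P) :=
    DGen9.isPerfect_of_iso (asIso (DerivedCategory.Q.map q)).symm hE
  obtain ⟨D, q', hD, hq'⟩ := RHom.exists_kflat_res
    (DerivedCategory.Q.objPreimage ((DCoh.RSheafHom P).obj (RHom.oD X)))
  haveI := hq'
  let eD : DerivedCategory.Q.obj D ≅ (DCoh.RSheafHom P).obj (RHom.oD X) :=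
    asIso (DerivedCategory.Q.map q') ≪≫ DerivedCategory.Q.objObjPreimageIso _
  let D₁ : KF X := ⟨D, hD⟩
  haveI : DCoh.HasLTensorCx D₁.obj := KFlat.Sch.hasLTensorCx D
  haveI : DCoh.HasLTensorCx D := KFlat.Sch.hasLTensorCx D
  obtain ⟨d⟩ := RHom.nonempty_dualIso hP hPp eD
  obtain ⟨c⟩ := nonempty_commIso D₁
  let GD : DCoh.D X := (DerivedCategory.singleFunctor X.Modules 0).obj G
  let w : (tL D₁).obj GD ≅ (tenF G).obj ((qK X).obj D₁) := Iso.refl _
  exact ⟨(qK X).obj D₁, DGen9.isPerfect_of_iso eD.symm (RHom.isPerfect_dual P hPp),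
    ⟨iE.app GD ≪≫ d.symm.app GD ≪≫ (theta D₁).symm.app GD ≪≫ c.symm.app GD ≪≫ w⟩⟩

end Groth.Agent.TwistBC9
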