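import Groth.Agent.Lib.TwistBC9.PCTwist
import Groth.Agent.Lib.DGen9.RelLocal
import Groth.Agent.Lib.DMV.Induct
import Groth.Agent.Lib.DPerf.OneDegree

/-!
# Relative perfection of twists by perfect objects
-/

set_option autoImplicit false
set_option linter.style.haveILetI false
set_option linter.unusedSectionVars false
set_option backward.isDefEq.respectTransparency false
set_option backward.isDefEq.respectTransparency.types false
set_option maxHeartbeats 800000

universe u

open CategoryTheory CategoryTheory.Limits MonoidalCategory AlgebraicGeometry Pretriangulated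
open scoped ZeroObject

attribute [local instance] HasDerivedCategory.standard

namespace Groth.Agent.TwistBC9

open DMon9 KFlat KFlat.Sch RelT

variable {X S : Scheme.{u}}

/-- Relative perfection restricts to open subschemes. -/
theorem relPerf_res (f : X ⟶ S) [Flat f] {K : DCoh.D X} (h : RelPerf f K) {Z : Scheme.{u}} (j : Z ⟶ X)
    [IsOpenImmersion j] : RelPerf (j ≫ f) ((DPerf.resD j).obj K) := by
  rw [relPerf_iff_stalks] at h ⊢
  refine ⟨fun m => RelPCS8.approx_res (h.1 m) j, fun R A i _ j' _ φ w => ?_⟩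
  obtain ⟨a, b, hab⟩ := h.2 R A i (j' ≫ j) φ (by rw [Category.assoc]; exact w)
  exact ⟨a, b, fun y => DBaseChange.hasTorAmplitudeIn_of_iso
    ((stD φ y).mapIso ((DPerf.resDComp j j').app K).symm) (hab y)⟩

/-- Relative perfection is local on the source. -/
theorem relPerf_of_res (f : X ⟶ S) [Flat f] (K : DCoh.D X)
    (h : ∀ x : X, ∃ (R A : CommRingCat.{u}) (i : Spec R ⟶ S) (_ : IsOpenImmersion i) (j : Spec A ⟶ X)
      (_ : IsOpenImmersion j) (φ : R ⟶ A) (_ : φ.hom.Flat), x ∈ j.opensRange ∧ j ≫ f = Spec.map φ ≫ i ∧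
        RelPerf (j ≫ f) ((DPerf.resD j).obj K)) : RelPerf f K := by
  refine relPerf_of_charts f K fun x => ?_
  obtain ⟨R, A, i, hi, j, hj, φ, hφ, hx, w, hK⟩ := h x
  obtain ⟨M, ⟨eM⟩⟩ := exists_chartModule (𝟙 (Spec A)) (isQCohD_of_pc hK.1)
  refine ⟨R, A, i, hi, j, hj, φ, M, hφ, hx, w, ⟨eM ≪≫ (DPerf.resDComp j (𝟙 _)).app K ≪≫
    (RelPCS8.resDCongr (Category.id_comp j)).app K⟩, ?_⟩
  exact isRelPerfect_chart (j ≫ f) i (𝟙 _) φ (by rw [Category.id_comp]; exact w) hK M eM

/-- Tensoring with an object, with values in the derived category. -/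
noncomputable def tenD {Y : Scheme.{u}} (M : DCoh.D Y) : DCoh.D Y ⥤ DCoh.D Y :=
  (tensorRight (M : DM Y) : DM Y ⥤ DM Y)

/-- Twists of relatively perfect objects by finite free complexes. -/
theorem relPerf_tensor_free {A : CommRingCat.{u}} (g : Spec A ⟶ S) [Flat g] {M : DCoh.D (Spec A)}
    (hM : RelPerf g M) (P : DRing.Cx A) (a b : ℤ) (hP : DRing.VanishesOutside P a b)
    (hF : DRing.TermwiseFiniteFree P) :
    RelPerf g ((tenD M).obj (DCoh.toD (Spec A) ((DPerf.tildeX A).obj P))) := by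
  haveI : ObjectProperty.IsClosedUnderIsomorphisms (RelPerf g) := ⟨fun e h => relPerf_of_iso g e h⟩
  obtain ⟨Mk, ⟨eM⟩⟩ := exists_qM M
  haveI := KFlat.Sch.hasLTensorCx Mk.obj
  let eM' : (qM (Spec A)).obj Mk ≅ (M : DM (Spec A)) := eM
  let tI : tenD M ≅ tR Mk := (((MonoidalCategory.tensoringRight (DM (Spec A))).mapIso eM').symm :)
  let c : ∀ Z : DCoh.D (Spec A), (tenD M).obj Z ≅ (DCoh.LTensorCx Mk.obj).obj Z := fun Z =>
    tI.app Z ≪≫ (theta Mk).app Z
  let Cl : DCoh.D (Spec A) → Prop := fun Z => RelPerf g ((DCoh.LTensorCx Mk.obj).obj Z)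
  haveI := isTriangulated_relPerf g
  have hiso : ∀ {Z Z' : DCoh.D (Spec A)}, (Z ≅ Z') → Cl Z → Cl Z' := fun e h =>
    relPerf_of_iso g ((DCoh.LTensorCx Mk.obj).mapIso e) h
  have hext : ∀ T ∈ (distTriang (DCoh.D (Spec A))), Cl T.obj₁ → Cl T.obj₃ → Cl T.obj₂ := fun T hT h₁ h₃ => by
    obtain ⟨T', hT', ⟨a₁⟩, ⟨a₂⟩, ⟨a₃⟩⟩ := exists_triangle_LT Mk T hT
    exact relPerf_of_iso g a₂ ((ObjectProperty.ext_of_isTriangulatedClosed₂ (RelPerf g)) T' hT' (relPerf_of_iso g a₁.symm h₁)
      (relPerf_of_iso g a₃.symm h₃))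
  have hzero : Cl (0 : DCoh.D (Spec A)) := relPerf_zero g ((DCoh.LTensorCx Mk.obj).map_isZero (isZero_zero _))
  have hshift : ∀ (Z : DCoh.D (Spec A)) (n : ℤ), Cl Z → Cl (Z⟦n⟧) := fun Z n h => by
    obtain ⟨s⟩ := nonempty_LT_shift Mk Z n
    exact relPerf_of_iso g s.symm ((RelPerf g).le_shift n _ h)
  have hO : Cl ((DerivedCategory.singleFunctor (Spec A).Modules 0).obj (Coh.structureModule (Spec A))) := by
    obtain ⟨s⟩ := nonempty_oneShift (X := Spec A) 0
    let w : (tenD M).obj (oneD (Spec A) 0) ≅ (tL (oneK (Spec A) 0)).obj M := Iso.refl _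
    exact relPerf_of_iso g ((c _).symm ≪≫ w ≪≫ s.app M ≪≫ (shiftFunctorZero' _ (-0 : ℤ) (by simp)).app M).symm hM
  have hfree : ∀ (n : ℕ) (m : ℤ),
      Cl ((DerivedCategory.singleFunctor (Spec A).Modules m).obj (FlatMod.freeMod (Spec A) n)) := fun n m => by
    have h0 := DMV.prop_single_finCoprod (P := Cl) ⟨hiso, hzero, hext⟩ (Coh.structureModule (Spec A)) 0
      (hiso ((DerivedCategory.singleFunctorIsoCompQ (Spec A).Modules 0).app _) hO) n
    refine hiso (((DerivedCategory.singleFunctors (Spec A).Modules).shiftIso (-m) m 0 (by omega)).app _) ?_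
    exact hshift _ (-m) (hiso ((DerivedCategory.singleFunctorIsoCompQ (Spec A).Modules 0).app _).symm h0)
  refine relPerf_of_iso g (c _).symm ?_
  refine PCoh.termwise_induction Cl ((DPerf.tildeX A).obj P) a b (fun i hi => (tilde.functor A).map_isZero (hP i (Or.inr hi)))
    hext (fun K hK hK' => ?_) fun i N _ _ ⟨eN⟩ => ?_
  · refine hiso (IsZero.iso (isZero_zero _) (DerivedCategory.Q.map_isZero ?_)) hzero
    rw [IsZero.iff_id_eq_zero]
    refine HomologicalComplex.hom_ext _ _ fun i => ?_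
    refine IsZero.eq_of_src ?_ _ _
    by_cases hi : a ≤ i
    · exact hK i hi
    · exact ((tilde.functor A).map_isZero (hP i (Or.inl (by omega)))).of_iso (hK' i (by omega)).some
  · haveI := (hF i).1
    haveI := (hF i).2
    rcases subsingleton_or_nontrivial A with hA | hA
    · haveI : Subsingleton (P.X i) := Module.subsingleton A _
      exact hiso (IsZero.iso (isZero_zero _) ((DerivedCategory.singleFunctor _ i).map_isZero
        (((tilde.functor A).map_isZero (ModuleCat.isZero_of_subsingleton _)).of_iso eN))) hzero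
    let bs := (Module.finBasis A (P.X i)).reindex Equiv.ulift.symm
    let ef : N ≅ FlatMod.freeMod (Spec A) (Module.finrank A (P.X i)) :=
      eN ≪≫ (tilde.functor A).mapIso (bs.repr.toModuleIso (g₁ := inferInstance)) ≪≫ M1.frTildeIso _ ≪≫
        (M1.freeModFrIso _ _).symm
    exact hiso ((DerivedCategory.singleFunctor _ i).mapIso ef.symm) (hfree _ i)

/-- Twists of relatively perfect objects by perfect objects. -/
theorem relPerf_ltensor (f : X ⟶ S) [Flat f] (K : DCoh.D X) (hK : DCoh.IsPerfect K)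
    (M : CochainComplex X.Modules ℤ) [DCoh.HasLTensorCx M] (hM : RelPerf f (DCoh.toD X M)) :
    RelPerf f ((DCoh.LTensorCx M).obj K) := by
  refine relPerf_of_res f _ fun x => ?_
  obtain ⟨R, A₁, i, hi, j₁, hj₁, φ, ⟨z, rfl⟩, w, hφ⟩ := exists_chart f x
  obtain ⟨A, j', hj', P', a, b, hz, hP', hF', α, hα⟩ :=
    DPerf.exists_free_chart (DPerf.isPerfect_iff_approx.1 (DGen9.isPerfect_resD j₁ hK)) z
  haveI := DPerf.isIso_of_dcond_univ hα
  let j := j' ≫ j₁
  let g := j ≫ f
  let ψ : A₁ ⟶ A := Spec.preimage j'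
  have hw : j ≫ f = Spec.map (φ ≫ ψ) ≫ i := by
    rw [Spec.map_comp, Spec.map_preimage, Category.assoc, Category.assoc, w]
  have hψ : (φ ≫ ψ).hom.Flat := by
    haveI : Flat (Spec.map φ) := (HasRingHomProperty.Spec_iff (P := @Flat)).2 (hφ inferInstance)
    refine (HasRingHomProperty.Spec_iff (P := @Flat)).1 ?_
    rw [Spec.map_comp, Spec.map_preimage]
    infer_instance
  refine ⟨R, A, i, hi, j, inferInstance, φ ≫ ψ, hψ, ?_, hw, ?_⟩
  · obtain ⟨t, ht⟩ := hz
    exact ⟨t, by simp [j, ht]⟩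
  let eP : (DPerf.resD j).obj K ≅ DCoh.toD (Spec A) ((DPerf.tildeX A).obj P') :=
    ((DPerf.resDComp j₁ j').app K).symm ≪≫ (asIso α).symm
  haveI : Flat g := inferInstance
  have hMj : RelPerf g ((DPerf.resD j).obj (DCoh.toD X M)) := relPerf_res f hM j
  obtain ⟨l⟩ := nonempty_ltensor_iso M K
  let K₁ : DM X := K
  let Z₁ : DM X := DCoh.toD X M
  refine relPerf_of_iso g ?_ (relPerf_tensor_free g hMj P' a b hP' hF')
  exact ((DPerf.resD j).mapIso l ≪≫ ((lPRes j).app _).symm ≪≫ ((Functor.Monoidal.μIso (dPull j) K₁ Z₁).symm :) ≪≫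
    (tensorIso (C := DM _) ((lPRes j).app K ≪≫ eP) ((lPRes j).app (DCoh.toD X M)) :)).symm

end Groth.Agent.TwistBC9
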