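import Groth.Agent.Lib.DBC9.Algebra
import Mathlib.RingTheory.IsTensorProduct
import Mathlib.Algebra.Category.Ring.Constructions

/-!
# Base change of a flat module in a single degree
-/

set_option autoImplicit false
set_option linter.unusedSectionVars false
set_option linter.style.haveILetI false
set_option backward.isDefEq.respectTransparency false
set_option backward.isDefEq.respectTransparency.types false
set_option maxHeartbeats 800000

universe u

open CategoryTheory CategoryTheory.Limits Pretriangulated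
open scoped TensorProduct ChangeOfRings

attribute [local instance] HasDerivedCategory.standard

namespace Groth.Agent.TwistBC9

open DBC9

/-- The comparison of the two base changes of a module along a pushout square. -/
theorem exists_pushIsoMod {A B A' B' : CommRingCat.{u}} (φ : A ⟶ B) (γ : A ⟶ A') (φ' : A' ⟶ B') (γ' : B ⟶ B')
    (H : IsPushout γ φ φ' γ') (M : ModuleCat.{u} B) :
    ∃ e : (ModuleCat.extendScalars γ.hom).obj ((ModuleCat.restrictScalars φ.hom).obj M) ≅
      (ModuleCat.restrictScalars φ'.hom).obj ((ModuleCat.extendScalars γ'.hom).obj M),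
      ∀ m : M, e.hom ((1 : A') ⊗ₜ[A, γ.hom] m) = (1 : B') ⊗ₜ[B, γ'.hom] m := by
  letI := γ.hom.toAlgebra
  letI := φ.hom.toAlgebra
  letI := φ'.hom.toAlgebra
  letI := γ'.hom.toAlgebra
  letI : Algebra A B' := (φ'.hom.comp γ.hom).toAlgebra
  haveI : IsScalarTower A A' B' := IsScalarTower.of_algebraMap_eq fun _ => rfl
  haveI : IsScalarTower A B B' := IsScalarTower.of_algebraMap_eq fun x => congrArg (fun t => t.hom x) H.w
  haveI hP : Algebra.IsPushout A A' B B' := CommRingCat.isPushout_iff_isPushout.1 H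
  letI : Module A M := Module.compHom M φ.hom
  haveI : IsScalarTower A B M := IsScalarTower.of_algebraMap_smul fun _ _ => rfl
  let l : (ModuleCat.extendScalars γ.hom).obj ((ModuleCat.restrictScalars φ.hom).obj M) ≃ₗ[A']
      (ModuleCat.restrictScalars φ'.hom).obj ((ModuleCat.extendScalars γ'.hom).obj M) :=
    (Algebra.IsPushout.cancelBaseChange A A' B B' M).symm
  exact ⟨l.toModuleIso, fun m => by
    change (Algebra.IsPushout.cancelBaseChange A A' B B' M).symm ((1 : A') ⊗ₜ[A] m) = _
    rw [Algebra.IsPushout.cancelBaseChange_symm_tmul, map_one]⟩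

variable {A B A' B' : Type u} [CommRing A] [CommRing B] [CommRing A'] [CommRing B'] (φ : A →+* B) (γ : A →+* A')
  (φ' : A' →+* B') (γ' : B →+* B')
  [DRing.HasLBaseChange φ] [DRing.HasLBaseChange γ] [DRing.HasLBaseChange φ'] [DRing.HasLBaseChange γ']
  {L : Dual.D A ⥤ Dual.D B} (adj : L ⊣ DRing.restrictD φ)
  {L' : Dual.D A' ⥤ Dual.D B'} (adj' : L' ⊣ DRing.restrictD φ')
  (σ : DRing.LBaseChange γ ⋙ L' ≅ L ⋙ DRing.LBaseChange γ')

/-- Base change followed by the truncation, for a module which is flat over the base. -/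
theorem isIso_bc_flat (a : ℤ) (M : ModuleCat.{u} B)
    (hν : IsIso ((νT γ a).app ((ModuleCat.restrictScalars φ).obj M)))
    (hpush : ∃ e : (ModuleCat.extendScalars γ).obj ((ModuleCat.restrictScalars φ).obj M) ≅
      (ModuleCat.restrictScalars φ').obj ((ModuleCat.extendScalars γ').obj M),
      ∀ m : M, e.hom ((1 : A') ⊗ₜ[A, γ] m) = (1 : B') ⊗ₜ[B, γ'] m) :
    IsIso ((bc adj adj' σ.hom).app ((TT B a).obj M) ≫
      (DRing.restrictD φ').map ((νT γ' a).app M)) := by
  obtain ⟨i⟩ := exists_unitIso φ adj a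
  obtain ⟨i'⟩ := exists_unitIso φ' adj' a
  letI := γ.toAlgebra
  letI := γ'.toAlgebra
  haveI := hν
  haveI := isIso_νT_of_flat γ a (ModuleCat.of A A)
  haveI := isIso_νT_of_flat γ' a (ModuleCat.of B B)
  let Bm := ModuleCat.of B B
  let N := (ModuleCat.restrictScalars φ).obj M
  let M₁ := (ModuleCat.extendScalars γ').obj Bm
  let M' := (ModuleCat.extendScalars γ').obj M
  let β : (DRing.LBaseChange γ).obj ((DRing.restrictD φ).obj ((TT B a).obj M)) ⟶
      (DRing.restrictD φ').obj ((TT B' a).obj M') :=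
    (bc adj adj' σ.hom).app ((TT B a).obj M) ≫ (DRing.restrictD φ').map ((νT γ' a).app M)
  let β₁ := (bc adj adj' σ.hom).app ((TT B a).obj Bm)
  let s : (DRing.LBaseChange γ).obj ((DRing.restrictD φ).obj ((TT B a).obj M)) ≅
      (TT A' a).obj ((ModuleCat.extendScalars γ).obj N) :=
    (DRing.LBaseChange γ).mapIso ((ρT φ a).app M) ≪≫ asIso ((νT γ a).app N)
  let t : (DRing.restrictD φ').obj ((TT B' a).obj M') ≅ (TT A' a).obj ((ModuleCat.restrictScalars φ').obj M') :=
    (ρT φ' a).app M'
  obtain ⟨ψ, hψ⟩ := (TT A' a).map_surjective (s.inv ≫ β ≫ t.hom)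
  suffices IsIso ψ by
    haveI : IsIso (s.inv ≫ β ≫ t.hom) := hψ ▸ inferInstance
    haveI : IsIso (β ≫ t.hom) := IsIso.of_isIso_comp_left s.inv _
    exact IsIso.of_isIso_comp_right β t.hom
  let uu : (TT A a).obj (ModuleCat.of A A) ⟶ (DRing.restrictD φ).obj ((TT B a).obj Bm) :=
    (TT A a).map (elMap φ Bm (1 : B)) ≫ (ρT φ a).inv.app Bm
  let one : (TT A' a).obj (ModuleCat.of A' A') ≅ (DRing.LBaseChange γ).obj ((TT A a).obj (ModuleCat.of A A)) :=
    (TT A' a).mapIso (LinearEquiv.toModuleIso (TensorProduct.AlgebraTensorModule.rid A A' A')).symm ≪≫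
      (asIso ((νT γ a).app (ModuleCat.of A A))).symm
  let z := one.hom ≫ (DRing.LBaseChange γ).map uu ≫ β₁
  let t₁ : (DRing.restrictD φ').obj ((DRing.LBaseChange γ').obj ((TT B a).obj Bm)) ≅
      (TT A' a).obj ((ModuleCat.restrictScalars φ').obj M₁) :=
    (DRing.restrictD φ').mapIso (asIso ((νT γ' a).app Bm)) ≪≫ (ρT φ' a).app M₁
  obtain ⟨z₀, hz₀⟩ := (TT A' a).map_surjective (z ≫ t₁.hom)
  let m₁ : M₁ := z₀ (1 : A')
  have hz₀' : z₀ = elMap φ' M₁ m₁ := by
    ext
    exact (elMap_one φ' M₁ m₁).symm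
  -- the transpose of `z` is invertible
  have hw : IsIso ((adj'.homEquiv _ _).symm ((TT A' a).map (elMap φ' M₁ m₁) ≫ (ρT φ' a).inv.app M₁)) := by
    haveI := isIso_transpose_one φ adj a i
    have e1 : (TT A' a).map (elMap φ' M₁ m₁) ≫ (ρT φ' a).inv.app M₁ =
        z ≫ (DRing.restrictD φ').map ((νT γ' a).app Bm) := by
      rw [← hz₀', hz₀, Category.assoc]
      refine congrArg (z ≫ ·) ?_
      simp [t₁]
      exact Category.comp_id _
    rw [e1, Adjunction.homEquiv_naturality_right_symm]
    suffices IsIso ((adj'.homEquiv _ _).symm z) by infer_instance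
    have e2 : (adj'.homEquiv _ _).symm z = L'.map one.hom ≫ σ.hom.app _ ≫
        (DRing.LBaseChange γ').map ((adj.homEquiv _ _).symm uu) := by
      have hn := σ.hom.naturality uu
      simp only [Functor.comp_map] at hn
      simp only [z, Adjunction.homEquiv_counit, Functor.map_comp, Category.assoc, β₁]
      rw [map_bc_counit, reassoc_of% hn]
    rw [e2]
    infer_instance
  have hbij := bijective_of_isIso_transpose φ' adj' a i' M₁ m₁ hw
  -- the unit
  let r : B' := TensorProduct.AlgebraTensorModule.rid B B' B' m₁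
  have hr : IsUnit r := by
    obtain ⟨x, hx⟩ := hbij.2 ((1 : B') ⊗ₜ[B, γ'] (1 : B))
    refine IsUnit.of_mul_eq_one x ?_
    have := congrArg (TensorProduct.AlgebraTensorModule.rid B B' B') hx
    rw [map_smul] at this
    refine (mul_comm r x).trans (this.trans ?_)
    exact one_smul B (1 : B')
  have hm₁ : m₁ = r ⊗ₜ[B, γ'] (1 : B) :=
    ((TensorProduct.AlgebraTensorModule.rid B B' B').symm_apply_apply m₁).symm
  -- the values
  have hψ₁ : ∀ m : M, ψ ((1 : A') ⊗ₜ[A, γ] m) = r ⊗ₜ[B, γ'] m := by
    intro m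
    let mb : Bm ⟶ M := ModuleCat.ofHom (LinearMap.toSpanSingleton B M m)
    have hm : elMap φ Bm (1 : B) ≫ (ModuleCat.restrictScalars φ).map mb = elMap φ M m := by
      rw [elMap_comp]
      congr 1
      exact one_smul B m
    have hu : (TT A a).map (elMap φ M m) ≫ (ρT φ a).inv.app M = uu ≫ (DRing.restrictD φ).map ((TT B a).map mb) := by
      have hn := (ρT φ a).inv.naturality mb
      simp only [Functor.comp_map] at hn
      simp only [uu, Category.assoc]
      rw [← hn, ← Functor.map_comp_assoc, hm]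
    have h1 : (LinearEquiv.toModuleIso (TensorProduct.AlgebraTensorModule.rid A A' A')).inv ≫
        (ModuleCat.extendScalars γ).map (elMap φ M m) ≫ ψ =
        z₀ ≫ (ModuleCat.restrictScalars φ').map ((ModuleCat.extendScalars γ').map mb) := by
      refine (TT A' a).map_injective ?_
      have n1 := (νT γ a).naturality (elMap φ M m)
      have n2 := (bc adj adj' σ.hom).naturality ((TT B a).map mb)
      have n3 := (νT γ' a).naturality mb
      have n4 := (ρT φ' a).hom.naturality ((ModuleCat.extendScalars γ').map mb)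
      simp only [Functor.comp_map] at n1 n2 n3 n4
      simp only [Functor.map_comp, hψ, hz₀, Category.assoc]
      rw [← cancel_epi ((TT A' a).map (LinearEquiv.toModuleIso (TensorProduct.AlgebraTensorModule.rid A A' A')).hom),
        ← cancel_epi ((νT γ a).app (ModuleCat.of A A)), ← Functor.map_comp_assoc, Iso.hom_inv_id,
        CategoryTheory.Functor.map_id, Category.id_comp, ← reassoc_of% n1]
      simp only [z, one, s, t, t₁, uu, β, β₁, Iso.trans_hom, Iso.trans_inv, Iso.symm_hom, Functor.mapIso_hom, Functor.mapIso_inv,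
        asIso_hom, asIso_inv, Iso.app_hom, Iso.app_inv, Category.assoc, IsIso.hom_inv_id_assoc, Functor.map_comp,
        IsIso.inv_hom_id_assoc, Iso.hom_inv_id_app_assoc]
      rw [← Functor.map_comp_assoc (TT A' a), Iso.hom_inv_id, CategoryTheory.Functor.map_id, Category.id_comp,
        IsIso.hom_inv_id_assoc, ← n4, ← Functor.map_comp_assoc (DRing.restrictD φ') ((νT γ' a).app Bm), ← n3,
        Functor.map_comp, Category.assoc, ← reassoc_of% n2, ← Functor.map_comp_assoc (DRing.LBaseChange γ),
        ← Functor.map_comp_assoc (DRing.LBaseChange γ)]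
      refine Eq.trans ?_ (IsIso.hom_inv_id_assoc _ _).symm
      rw [← Functor.map_comp_assoc, Category.assoc]
      simp only [uu, Category.assoc] at hu
      exact congrArg (fun k => (DRing.LBaseChange γ).map k ≫ _) hu
    have h2 := congrArg (fun k => k.hom (1 : A')) h1
    simp only [ModuleCat.hom_comp, LinearMap.comp_apply] at h2
    refine Eq.trans ?_ (h2.trans ?_)
    · exact congrArg (fun y : (ModuleCat.restrictScalars φ).obj M => ψ ((1 : A') ⊗ₜ[A, γ] y)) (elMap_one φ M m).symm
    · change (ModuleCat.extendScalars γ').map mb m₁ = r ⊗ₜ[B, γ'] m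
      rw [hm₁]
      change r ⊗ₜ[B, γ'] ((1 : B) • m) = r ⊗ₜ[B, γ'] m
      rw [one_smul]
  obtain ⟨e, he⟩ := hpush
  let μ : M' ⟶ M' := r • 𝟙 M'
  haveI : IsIso μ := ⟨(hr.unit⁻¹ : B'ˣ).val • 𝟙 M', by
    simp only [μ, Linear.smul_comp, Linear.comp_smul, Category.id_comp, smul_smul]
    rw [IsUnit.val_inv_mul, one_smul], by
    simp only [μ, Linear.smul_comp, Linear.comp_smul, Category.id_comp, smul_smul]
    rw [IsUnit.mul_val_inv, one_smul]⟩
  have : ψ = e.hom ≫ (ModuleCat.restrictScalars φ').map μ := by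
    refine ModuleCat.ExtendScalars.hom_ext (f := γ) fun m => ?_
    rw [hψ₁]
    change r ⊗ₜ[B, γ'] m = r • (e.hom ((1 : A') ⊗ₜ[A, γ] m) : M')
    rw [he]
    exact congrArg (fun y => y ⊗ₜ[B, γ'] m) (mul_one r).symm
  rw [this]
  infer_instance

end Groth.Agent.TwistBC9
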